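import Groth.Agent.H60.HM.Core
import Groth.Agent.H60.MuTorus.Laurent
import Groth.Agent.Lib.Comod.Orbits2
import Mathlib.RingTheory.Bialgebra.MonoidAlgebra

/-!
A point of the general linear group fixed by a diagonal subgroup modulo a group gives a one-parameter subgroup of the group.
-/

set_option autoImplicit false

universe u

open TensorProduct CoordGrp Groth.Agent.Lib.Comod LaurentPolynomial

namespace Groth.Agent.H60.HM

noncomputable section

variable {k : Type u} [Field k] {N : ℕ}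

/-- Evaluation of Laurent polynomials at an invertible scalar. -/
def evT (t : kˣ) : k[T;T⁻¹] →ₐ[k] k :=
  AlgHom.mk' (LaurentPolynomial.eval₂ (RingHom.id k) t) fun c x => by
    rw [Algebra.smul_def, map_mul, ← C_eq_algebraMap, eval₂_C]; rfl

@[simp] theorem evT_T (t : kˣ) (n : ℤ) : evT t (T n : k[T;T⁻¹]) = ((t ^ n : kˣ) : k) := eval₂_T _ _ _

@[simp] theorem evT_C (t : kˣ) (c : k) : evT t (LaurentPolynomial.C c) = c := eval₂_C _ _ _

theorem evT_ext [Infinite k] {P Q : k[T;T⁻¹]} (h : ∀ t : kˣ, evT t P = evT t Q) : P = Q :=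
  MuTorus.eq_of_eval_eq h

variable {A : Type u} [CommRing A] [HopfAlgebra k A] (e : GLn N k →ₐc[k] A)

theorem exists_cochar [IsAlgClosed k] [Algebra.FiniteType k A] (he : Function.Surjective e)
    (hG : HopfRep.IsLinearlyReductive k A) (r : Fin N → ℤ) (w : GLn N k →ₐ[k] k)
    (hfix : ∀ f, InvF e f → ∀ t : kˣ, moved r t w f = w f) :
    ∃ lam : A →ₐc[k] k[T;T⁻¹], ∀ t : kˣ,
      rho e ((evT t).comp (lam : A →ₐ[k] k[T;T⁻¹])) = (mat w)⁻¹ * dg r t * mat w := by
  letI := rComod e
  haveI := isCoactAlg_rComod e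
  have hpt : ∀ t : kˣ, ∃ g : A →ₐ[k] k, rho e g = (mat w)⁻¹ * dg r t * mat w := fun t => by
    obtain ⟨g, hg⟩ := Orbits2.inOrbit_of_invariants_eq hG (isClosedOrbit e he w) (isClosedOrbit e he (moved r t w))
      fun f hf => (hfix f hf t).symm
    refine ⟨g, ?_⟩
    have h := congrArg mat hg
    rw [mat_moved, mat_actPt] at h
    rw [Matrix.mul_assoc, h, Matrix.nonsing_inv_mul_cancel_left _ _ (isUnit_det w)]
  choose g hg using hpt
  let W := mat w
  let P : Matrix (Fin N) (Fin N) k[T;T⁻¹] :=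
    Matrix.of fun i j => ∑ m, LaurentPolynomial.C (W⁻¹ i m * W m j) * T (r m)
  have hP : ∀ i j, P i j = ∑ m, LaurentPolynomial.C (W⁻¹ i m * W m j) * T (r m) := fun i j => rfl
  have hPt : ∀ (t : kˣ) i j, evT t (P i j) = (W⁻¹ * dg r t * W) i j := fun t i j => by
    rw [hP, Matrix.mul_apply]
    refine (map_sum (evT t) _ _).trans (Finset.sum_congr rfl fun m _ => ?_)
    rw [map_mul (evT t), evT_C, evT_T, dg, Matrix.mul_diagonal]
    ring
  have hWW : ∀ m m', ∑ l, W m l * W⁻¹ l m' = if m = m' then 1 else 0 := fun m m' => by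
    rw [← Matrix.mul_apply, Matrix.mul_nonsing_inv _ (isUnit_det w), Matrix.one_apply]
  have hc : ∀ i j, CoalgebraStruct.comul (R := k) (P i j) = ∑ l, P i l ⊗ₜ[k] P l j := fun i j => by
    have e1 : ∀ (c : k) (n : ℤ), (LaurentPolynomial.C c * T n : k[T;T⁻¹]) = c • T n := fun c n => by
      rw [Algebra.smul_def, C_eq_algebraMap]
    simp only [hP, map_sum, e1, map_smul, LaurentPolynomial.comul_T, TensorProduct.sum_tmul,
      TensorProduct.tmul_sum, TensorProduct.smul_tmul_smul]
    rw [Finset.sum_comm (s := Finset.univ) (t := Finset.univ)]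
    refine Finset.sum_congr rfl fun m _ => ?_
    rw [Finset.sum_comm]
    have h2 : ∀ y : Fin N, ∑ l, (W⁻¹ i y * W y l * (W⁻¹ l m * W m j)) • ((T (r y) : k[T;T⁻¹]) ⊗ₜ[k] (T (r m) : k[T;T⁻¹]))
        = if y = m then (W⁻¹ i y * W m j) • ((T (r y) : k[T;T⁻¹]) ⊗ₜ[k] (T (r m) : k[T;T⁻¹])) else 0 := fun y => by
      rw [← Finset.sum_smul, show ∑ l, W⁻¹ i y * W y l * (W⁻¹ l m * W m j) =
        W⁻¹ i y * (∑ l, W y l * W⁻¹ l m) * W m j by
          rw [Finset.mul_sum, Finset.sum_mul]
          exact Finset.sum_congr rfl fun l _ => by ring, hWW]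
      split_ifs <;> simp
    simp [h2]
  have hε : ∀ i j, CoalgebraStruct.counit (R := k) (P i j) = if i = j then (1 : k) else 0 := fun i j => by
    have e1 : ∀ (c : k) (n : ℤ), (LaurentPolynomial.C c * T n : k[T;T⁻¹]) = c • T n := fun c n => by
      rw [Algebra.smul_def, C_eq_algebraMap]
    rw [← Matrix.one_apply, ← Matrix.nonsing_inv_mul _ (isUnit_det w), Matrix.mul_apply, hP]
    refine (map_sum (CoalgebraStruct.counit (R := k) (A := k[T;T⁻¹])) _ _).trans
      (Finset.sum_congr rfl fun m _ => ?_)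
    rw [e1, map_smul, LaurentPolynomial.counit_T, smul_eq_mul, mul_one]
  let lam' := homOf P hc hε
  have hev : ∀ t, (evT t).comp (lam' : GLn N k →ₐ[k] k[T;T⁻¹]) = (g t).comp (e : GLn N k →ₐ[k] A) := fun t => by
    refine mat_ext ?_
    change _ = rho e (g t)
    rw [hg]
    ext i j
    change evT t (lam' (GLn.X i j)) = _
    rw [show lam' (GLn.X i j) = P i j from homOf_X P hc hε i j]
    exact hPt t i j
  have hker : RingHom.ker (e : GLn N k →ₐ[k] A).toRingHom ≤ RingHom.ker (lam' : GLn N k →ₐ[k] k[T;T⁻¹]).toRingHom := by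
    intro f hf
    refine evT_ext fun t => ?_
    have h := AlgHom.congr_fun (hev t) f
    simp only [AlgHom.comp_apply] at h
    rw [show (e : GLn N k →ₐ[k] A) f = 0 from hf, map_zero] at h
    rw [map_zero]
    exact h
  let lam₀ : A →ₐ[k] k[T;T⁻¹] := AlgHom.liftOfSurjective (e : GLn N k →ₐ[k] A) he (lam' : GLn N k →ₐ[k] k[T;T⁻¹]) hker
  have hl : ∀ f, lam₀ (e f) = lam' f := fun f =>
    AlgHom.liftOfSurjective_apply (e : GLn N k →ₐ[k] A) he (lam' : GLn N k →ₐ[k] k[T;T⁻¹]) hker f
  let lam : A →ₐc[k] k[T;T⁻¹] := BialgHom.ofAlgHom lam₀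
    (AlgHom.ext fun a => by
      obtain ⟨f, rfl⟩ := he a
      simp only [AlgHom.comp_apply, Bialgebra.counitAlgHom_apply, hl, CoalgHomClass.counit_comp_apply])
    (AlgHom.ext fun a => by
      obtain ⟨f, rfl⟩ := he a
      simp only [AlgHom.comp_apply, Bialgebra.comulAlgHom_apply, hl]
      rw [← CoalgHomClass.map_comp_comul_apply lam', ← CoalgHomClass.map_comp_comul_apply e]
      induction CoalgebraStruct.comul (R := k) f using TensorProduct.induction_on with
      | zero => simp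
      | tmul p q => simp [hl]
      | add p q hp hq => simp only [map_add, hp, hq])
  refine ⟨lam, fun t => ?_⟩
  rw [← hg t]
  change mat _ = mat _
  congr 1
  refine Eq.trans ?_ (hev t)
  exact AlgHom.ext fun f => congrArg (evT t) (hl f)

end

end Groth.Agent.H60.HM
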