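import Mathlib.LinearAlgebra.Matrix.NonsingularInverse
import Mathlib.LinearAlgebra.Matrix.Determinant.Basic
import Mathlib.Data.Fintype.Order
import Mathlib.Algebra.Field.Basic
import Mathlib.Algebra.BigOperators.Fin
import Mathlib.Tactic.FieldSimp
import Mathlib.Tactic.LinearCombination
import Mathlib.Tactic.Ring

/-!
Gaussian elimination adapted to a weight vector.
-/

set_option autoImplicit false

universe u v

open Matrix

namespace Groth.Agent.H60.HM

noncomputable section

/-- Entries are supported where the weight does not increase from column to row. -/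
def Nonneg {N : ℕ} {B : Type u} [Zero B] (r : Fin N → ℤ) (M : Matrix (Fin N) (Fin N) B) : Prop :=
  ∀ i j, M i j ≠ 0 → r j ≤ r i

theorem Nonneg.mul {N : ℕ} {B : Type u} [Semiring B] {r : Fin N → ℤ} {M M' : Matrix (Fin N) (Fin N) B}
    (h : Nonneg r M) (h' : Nonneg r M') : Nonneg r (M * M') := fun i j hij => by
  obtain ⟨l, -, hl⟩ := Finset.exists_ne_zero_of_sum_ne_zero (Matrix.mul_apply.symm.trans_ne hij)
  exact (h' l j (right_ne_zero_of_mul hl)).trans (h i l (left_ne_zero_of_mul hl))

theorem Nonneg.diagonal {N : ℕ} {B : Type u} [Zero B] (r : Fin N → ℤ) (d : Fin N → B) :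
    Nonneg r (Matrix.diagonal d) := fun i j hij => by
  by_cases h : i = j
  · rw [h]
  · exact (hij (Matrix.diagonal_apply_ne d h)).elim

/-- An index of least weight. -/
def pivot {n : ℕ} (r : Fin (n + 1) → ℤ) : Fin (n + 1) := Classical.choose (Finite.exists_min r)

theorem pivot_le {n : ℕ} (r : Fin (n + 1) → ℤ) (j : Fin (n + 1)) : r (pivot r) ≤ r j :=
  Classical.choose_spec (Finite.exists_min r) j

/-- The function whose non-vanishing allows elimination. -/
def gd {B : Type u} [CommRing B] : (n : ℕ) → (Fin n → ℤ) → Matrix (Fin n) (Fin n) B → B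
  | 0, _, _ => 1
  | n + 1, r, M =>
    M (pivot r) (pivot r) * gd n (r ∘ (pivot r).succAbove) (Matrix.of fun i j =>
      M (pivot r) (pivot r) * M ((pivot r).succAbove i) ((pivot r).succAbove j) -
        M ((pivot r).succAbove i) (pivot r) * M (pivot r) ((pivot r).succAbove j))

theorem gd_map {B : Type u} [CommRing B] {C : Type v} [CommRing C] (f : B →+* C) :
    ∀ (n : ℕ) (r : Fin n → ℤ) (M : Matrix (Fin n) (Fin n) B), gd n r (M.map f) = f (gd n r M)
  | 0, _, _ => (map_one f).symm
  | n + 1, r, M => by
    simp only [gd, map_mul, Matrix.map_apply, ← gd_map f n]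
    congr 2
    ext i j
    simp

theorem gd_one {B : Type u} [CommRing B] : ∀ (n : ℕ) (r : Fin n → ℤ), gd n r (1 : Matrix (Fin n) (Fin n) B) = 1
  | 0, _ => rfl
  | n + 1, r => by
    simp only [gd, Matrix.one_apply_eq, one_mul]
    rw [← gd_one n (r ∘ (pivot r).succAbove)]
    congr 1
    ext i j
    simp [Matrix.one_apply, Fin.succAbove_right_inj, Fin.succAbove_ne, (Fin.succAbove_ne _ _).symm]

theorem gd_spec {K : Type u} [Field K] : ∀ (n : ℕ) (r : Fin n → ℤ) (M : Matrix (Fin n) (Fin n) K), gd n r M ≠ 0 →
    ∃ p p' q : Matrix (Fin n) (Fin n) K,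
      Nonneg r p ∧ Nonneg r p' ∧ Nonneg (-r) q ∧ p' * p = 1 ∧ q.det = 1 ∧ M = p * q := by
  intro n
  induction n with
  | zero =>
    exact fun r M _ => ⟨1, 1, 1, fun i => i.elim0, fun i => i.elim0, fun i => i.elim0, mul_one _, det_one,
      by ext i; exact i.elim0⟩
  | succ n ih =>
    intro r M hM
    simp only [gd] at hM
    set a := pivot r with hadef
    have ha : M a a ≠ 0 := left_ne_zero_of_mul hM
    obtain ⟨P, P', Q, hP, hP', hQ, hPP, hQd, hS⟩ := ih (r ∘ a.succAbove) _ (right_ne_zero_of_mul hM)
    have hS' : ∀ i j, M a a * M (a.succAbove i) (a.succAbove j) - M (a.succAbove i) a * M a (a.succAbove j) =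
        ∑ l, P i l * Q l j := fun i j => (congrFun (congrFun hS i) j).trans Matrix.mul_apply
    let p : Matrix (Fin (n + 1)) (Fin (n + 1)) K := Matrix.of fun i => a.insertNth (α := fun _ => Fin (n + 1) → K)
      (a.insertNth (α := fun _ => K) (M a a) fun _ => 0)
      (fun i' => a.insertNth (α := fun _ => K) (M (a.succAbove i') a) fun j' => P i' j' / M a a) i
    let p' : Matrix (Fin (n + 1)) (Fin (n + 1)) K := Matrix.of fun i => a.insertNth (α := fun _ => Fin (n + 1) → K)
      (a.insertNth (α := fun _ => K) (M a a)⁻¹ fun _ => 0)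
      (fun i' => a.insertNth (α := fun _ => K) (-∑ l, P' i' l * M (a.succAbove l) a) fun j' => P' i' j' * M a a) i
    let q : Matrix (Fin (n + 1)) (Fin (n + 1)) K := Matrix.of fun i => a.insertNth (α := fun _ => Fin (n + 1) → K)
      (a.insertNth (α := fun _ => K) 1 fun j' => M a (a.succAbove j') / M a a)
      (fun i' => a.insertNth (α := fun _ => K) 0 fun j' => Q i' j') i
    refine ⟨p, p', q, ?_, ?_, ?_, ?_, ?_, ?_⟩
    · intro i j hij
      rcases Fin.eq_self_or_eq_succAbove a i with rfl | ⟨i', rfl⟩ <;>
        rcases Fin.eq_self_or_eq_succAbove a j with rfl | ⟨j', rfl⟩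
      · rfl
      · simp [p] at hij
      · exact pivot_le r _
      · refine hP i' j' fun h => hij ?_
        simp [p, h]
    · intro i j hij
      rcases Fin.eq_self_or_eq_succAbove a i with rfl | ⟨i', rfl⟩ <;>
        rcases Fin.eq_self_or_eq_succAbove a j with rfl | ⟨j', rfl⟩
      · rfl
      · simp [p'] at hij
      · exact pivot_le r _
      · refine hP' i' j' fun h => hij ?_
        simp [p', h]
    · intro i j hij
      rcases Fin.eq_self_or_eq_succAbove a i with rfl | ⟨i', rfl⟩ <;>
        rcases Fin.eq_self_or_eq_succAbove a j with rfl | ⟨j', rfl⟩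
      · rfl
      · simpa using pivot_le r _
      · simp [q] at hij
      · refine hQ i' j' fun h => hij ?_
        simp [q, h]
    · ext i j
      rcases Fin.eq_self_or_eq_succAbove a i with rfl | ⟨i', rfl⟩ <;>
        rcases Fin.eq_self_or_eq_succAbove a j with rfl | ⟨j', rfl⟩
      · simp [Matrix.mul_apply, Fin.sum_univ_succAbove _ a, p, p', ha]
      · simp [Matrix.mul_apply, Fin.sum_univ_succAbove _ a, p, p']
      · simp [Matrix.mul_apply, Fin.sum_univ_succAbove _ a, p, p', Fin.succAbove_ne, ← Finset.sum_mul]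
        have : ∑ l, P' i' l * M a a * M (a.succAbove l) a = (∑ l, P' i' l * M (a.succAbove l) a) * M a a := by
          rw [Finset.sum_mul]; exact Finset.sum_congr rfl fun l _ => by ring
        linear_combination this
      · have h1 := congrFun (congrFun hPP i') j'
        rw [Matrix.mul_apply] at h1
        simp only [Matrix.mul_apply, Fin.sum_univ_succAbove _ a, p, p', Matrix.of_apply, Fin.insertNth_apply_same,
          Fin.insertNth_apply_succAbove, mul_zero, zero_add, Matrix.one_apply, Fin.succAbove_right_inj] at h1 ⊢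
        rw [← h1]
        exact Finset.sum_congr rfl fun l _ => by field_simp
    · rw [Matrix.det_succ_column q a, Fin.sum_univ_succAbove _ a]
      have : q.submatrix a.succAbove a.succAbove = Q := by ext i j; simp [q]
      simp [q, Fin.succAbove_ne] at this ⊢
      rw [this, hQd]
    · ext i j
      rcases Fin.eq_self_or_eq_succAbove a i with rfl | ⟨i', rfl⟩ <;>
        rcases Fin.eq_self_or_eq_succAbove a j with rfl | ⟨j', rfl⟩
      · simp [Matrix.mul_apply, Fin.sum_univ_succAbove _ a, p, q]
      · simp [Matrix.mul_apply, Fin.sum_univ_succAbove _ a, p, q, mul_div_cancel₀ _ ha]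
      · simp [Matrix.mul_apply, Fin.sum_univ_succAbove _ a, p, q]
      · simp only [Matrix.mul_apply, Fin.sum_univ_succAbove _ a, p, q, Matrix.of_apply, Fin.insertNth_apply_same,
          Fin.insertNth_apply_succAbove]
        rw [← sub_eq_iff_eq_add']
        refine mul_left_cancel₀ ha ?_
        rw [mul_sub, Finset.mul_sum, ← mul_assoc, mul_comm (M a a) (M (a.succAbove i') a), mul_assoc,
          mul_div_cancel₀ _ ha, hS']
        exact Finset.sum_congr rfl fun l _ => by field_simp

end

end Groth.Agent.H60.HM
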