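import Groth.Agent.H60.HM.Grade
import Groth.Agent.H60.HM.Gauss
import Groth.Agent.H60.LunaSurj
import Mathlib.Algebra.Polynomial.Reverse
import Mathlib.RingTheory.Noetherian.Nilpotent

/-!
A point having a limit in the space of cosets under a diagonal subgroup can be moved by a non-negative
matrix to a point fixed by the subgroup.
-/

set_option autoImplicit false

universe u

open TensorProduct CoordGrp Groth.Agent.Lib.Comod

namespace Groth.Agent.H60.HM

noncomputable section

variable {k : Type u} [Field k] {N : ℕ}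

/-- The diagonal matrix with entries `t ^ r i`. -/
def dg (r : Fin N → ℤ) (t : kˣ) : Matrix (Fin N) (Fin N) k := Matrix.diagonal fun i => ((t ^ r i : kˣ) : k)

theorem dg_mul (r : Fin N → ℤ) (s t : kˣ) : dg r (s * t) = dg r s * dg r t := by
  rw [dg, dg, dg, Matrix.diagonal_mul_diagonal]
  simp [mul_zpow]

theorem dg_one (r : Fin N → ℤ) : dg r (1 : kˣ) = 1 := by simp [dg]

theorem isUnit_det_dg (r : Fin N → ℤ) (t : kˣ) : IsUnit (dg r t).det := by
  rw [dg, Matrix.det_diagonal, ← Units.coe_prod]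
  exact Units.isUnit _

theorem dg_conj_apply (r : Fin N → ℤ) (t : kˣ) (M : Matrix (Fin N) (Fin N) k) (i j : Fin N) :
    (dg r t * M * dg r t⁻¹) i j = ((t ^ (r i - r j) : kˣ) : k) * M i j := by
  rw [dg, dg, Matrix.mul_diagonal, Matrix.diagonal_mul, inv_zpow, zpow_sub, Units.val_mul]
  ring

/-- A point moved by a diagonal matrix. -/
def moved (r : Fin N → ℤ) (t : kˣ) (x : GLn N k →ₐ[k] k) : GLn N k →ₐ[k] k :=
  ofMat (dg r t * mat x) (by rw [Matrix.det_mul]; exact (isUnit_det_dg r t).mul (isUnit_det x))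

@[simp] theorem mat_moved (r : Fin N → ℤ) (t : kˣ) (x : GLn N k →ₐ[k] k) : mat (moved r t x) = dg r t * mat x :=
  mat_ofMat _ _

variable {A : Type u} [CommRing A] [HopfAlgebra k A] (e : GLn N k →ₐc[k] A)

/-- All invariant functions have a limit along the orbit of a diagonal subgroup. -/
def HasLim (r : Fin N → ℤ) (x : GLn N k →ₐ[k] k) : Prop :=
  ∀ f, InvF e f → ∃ P : Polynomial k, ∀ t : kˣ, moved r t x f = P.eval (t : k)

theorem HasLim.moved {r : Fin N → ℤ} {x : GLn N k →ₐ[k] k} (h : HasLim e r x) (s : kˣ) :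
    HasLim e r (Groth.Agent.H60.HM.moved r s x) := fun f hf => by
  obtain ⟨P, hP⟩ := h f hf
  refine ⟨P.comp (Polynomial.C (s : k) * Polynomial.X), fun t => ?_⟩
  rw [show Groth.Agent.H60.HM.moved r t (Groth.Agent.H60.HM.moved r s x) = Groth.Agent.H60.HM.moved r (s * t) x from
    mat_ext (by simp [← Matrix.mul_assoc, ← dg_mul, mul_comm]), hP]
  simp

theorem poly_ext [Infinite k] {P Q : Polynomial k} (h : ∀ t : kˣ, P.eval (t : k) = Q.eval (t : k)) : P = Q :=
  Polynomial.eq_of_infinite_eval_eq P Q <| ((Set.finite_singleton (0 : k)).infinite_compl).mono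
    fun a ha => h (Units.mk0 a ha)

variable [IsAlgClosed k] [Algebra.FiniteType k A]

instance finiteTypeGLn : Algebra.FiniteType k (GLn N k) := by
  haveI : Algebra.FiniteType k (MvPolynomial (GLPoly.Idx N) k) := inferInstance
  exact Algebra.FiniteType.of_surjective (R := k)
    (show MvPolynomial (GLPoly.Idx N) k →ₐ[k] GLn N k from GLn.mk N k) Ideal.Quotient.mk_surjective

/-- The limit point and its fixedness. -/
theorem exists_lim (hG : HopfRep.IsLinearlyReductive k A) {r : Fin N → ℤ} {w₀ : GLn N k →ₐ[k] k}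
    (hlim : HasLim e r w₀) :
    ∃ g₁ : GLn N k →ₐ[k] k, (∀ f, InvF e f → ∀ P : Polynomial k, (∀ t : kˣ, moved r t w₀ f = P.eval (t : k)) →
        g₁ f = P.eval 0) ∧ ∀ f, InvF e f → ∀ t : kˣ, moved r t g₁ f = g₁ f := by
  letI := rComod e
  haveI := isCoactAlg_rComod e
  let emb : Polynomial k →ₐ[k] (kˣ → k) := Polynomial.aeval fun t : kˣ => (t : k)
  have hemb : ∀ P t, emb P t = P.eval (t : k) := fun P t => by
    simp only [emb, Polynomial.aeval_fn_apply]
    rw [Polynomial.aeval_def, Algebra.algebraMap_self, Polynomial.eval₂_id]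
  have hinj : Function.Injective emb := fun P Q h => poly_ext fun t => by rw [← hemb, ← hemb, h]
  let orb : GLn N k →ₐ[k] (kˣ → k) := Pi.algHom k (fun _ => k) fun t => moved r t w₀
  let φ : GLin.invariants k A (GLn N k) →ₐ[k] k :=
    (Polynomial.aeval (0 : k)).comp ((AlgEquiv.ofInjective emb hinj).symm.toAlgHom.comp
      ((orb.comp (GLin.invariants k A (GLn N k)).val).codRestrict emb.range fun f => by
        obtain ⟨P, hP⟩ := hlim f f.2
        exact ⟨P, funext fun t => (hemb P t).trans (hP t).symm⟩))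
  obtain ⟨g₁, -, hg₁⟩ := Orbits.exists_pt_over hG (I := (⊥ : Ideal (GLn N k)))
    (by rw [Submodule.restrictScalars_bot]; exact Basic.isSubcomod_bot) φ
    fun f hf => by rw [show f = 0 from Subtype.ext ((Ideal.mem_bot).1 hf), map_zero]
  have hval : ∀ f, InvF e f → ∀ P : Polynomial k, (∀ t : kˣ, moved r t w₀ f = P.eval (t : k)) → g₁ f = P.eval 0 := by
    intro f hf P hP
    rw [hg₁ ⟨f, hf⟩]
    simp only [φ, AlgHom.comp_apply]
    rw [← Polynomial.coe_aeval_eq_eval]
    congr 1
    change (AlgEquiv.ofInjective emb hinj).symm _ = P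
    rw [AlgEquiv.symm_apply_eq]
    exact Subtype.ext (funext fun t => (hP t).trans (hemb P t).symm)
  refine ⟨g₁, hval, fun f hf t => ?_⟩
  let y : GLn N k →ₐ[k] k := ofMat (dg r t) (isUnit_det_dg r t)
  obtain ⟨f', hf', hz⟩ := exists_translate e hf y
  obtain ⟨P, hP⟩ := hlim f hf
  have hy : ∀ z, mulP y z = moved r t z := fun z => mat_ext (by simp [y])
  rw [← hy, hz, hval f hf P hP, hval f' hf' (P.comp (Polynomial.C (t : k) * Polynomial.X)) fun s => by
    rw [← hz, hy, show moved r t (moved r s w₀) = moved r (t * s) w₀ from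
      mat_ext (by simp [← Matrix.mul_assoc, ← dg_mul]), hP, Polynomial.eval_comp, Polynomial.eval_mul,
      Polynomial.eval_C, Polynomial.eval_X, Units.val_mul]]
  rw [Polynomial.eval_comp, Polynomial.eval_mul, Polynomial.eval_C, Polynomial.eval_X, mul_zero]

theorem exists_polyMat {r : Fin N → ℤ} {M : Matrix (Fin N) (Fin N) k} (hM : Nonneg r M) (hdet : IsUnit M.det) :
    ∃ y : GLn N k →ₐ[k] Polynomial k,
      (∀ t : kˣ, (mat y).map (Polynomial.eval (t : k)) = dg r t * M * dg r t⁻¹) ∧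
      (mat y).map (Polynomial.eval 0) = Matrix.of fun i j => if r i = r j then M i j else 0 := by
  let MX : Matrix (Fin N) (Fin N) (Polynomial k) :=
    Matrix.of fun i j => Polynomial.C (M i j) * Polynomial.X ^ (r i - r j).toNat
  have he : ∀ t : kˣ, MX.map (Polynomial.eval (t : k)) = dg r t * M * dg r t⁻¹ := fun t => by
    ext i j
    rw [dg_conj_apply]
    by_cases h : M i j = 0
    · simp [MX, h]
    · obtain ⟨l, hl⟩ : ∃ l : ℕ, r i - r j = l := ⟨_, (Int.toNat_of_nonneg (by linarith [hM i j h])).symm⟩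
      rw [Matrix.map_apply, show MX i j = Polynomial.C (M i j) * Polynomial.X ^ (r i - r j).toNat from rfl,
        Polynomial.eval_mul, Polynomial.eval_C, Polynomial.eval_pow, Polynomial.eval_X, hl, Int.toNat_natCast,
        zpow_natCast, Units.val_pow_eq_pow_val]
      exact mul_comm _ _
  have hd : MX.det = Polynomial.C M.det := poly_ext fun t => by
    rw [Polynomial.eval_C, ← Polynomial.coe_evalRingHom, RingHom.map_det, RingHom.mapMatrix_apply,
      Polynomial.coe_evalRingHom, he, Matrix.det_mul, Matrix.det_mul, mul_comm ((dg r t).det), mul_assoc,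
      ← Matrix.det_mul, ← dg_mul, mul_inv_cancel, dg_one, Matrix.det_one, mul_one]
  refine ⟨ofMat MX (by rw [hd]; exact hdet.map Polynomial.C), fun t => by rw [mat_ofMat, he], ?_⟩
  rw [mat_ofMat]
  ext i j
  simp only [MX, Matrix.map_apply, Matrix.of_apply, Polynomial.eval_mul, Polynomial.eval_C, Polynomial.eval_pow,
    Polynomial.eval_X]
  by_cases h : M i j = 0
  · simp [h]
  · by_cases hr : r i = r j
    · simp [hr]
    · rw [if_neg hr, zero_pow (by have := hM i j h; omega), mul_zero]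

theorem const_of_poly_inv {P Q : Polynomial k} (h : ∀ t : kˣ, P.eval (t : k) = Q.eval ((t⁻¹ : kˣ) : k)) :
    P.eval 1 = Q.eval 0 := by
  have h1 : P * Polynomial.X ^ Q.natDegree = Q.reverse := poly_ext fun t => by
    letI : Invertible ((t⁻¹ : kˣ) : k) := Units.invertible _
    rw [Polynomial.eval_mul, Polynomial.eval_pow, Polynomial.eval_X, h t]
    have h2 := Polynomial.eval₂_reverse_mul_pow (RingHom.id k) ((t⁻¹ : kˣ) : k) Q
    simp only [Polynomial.eval₂_id, invOf_units, inv_inv] at h2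
    rw [← h2, mul_assoc, ← mul_pow, ← Units.val_mul, inv_mul_cancel, Units.val_one, one_pow, mul_one]
  by_cases hP : P = 0
  · rw [hP, zero_mul] at h1
    rw [hP, Polynomial.eval_zero, Polynomial.reverse_eq_zero.1 h1.symm, Polynomial.eval_zero]
  have hd : P.natDegree + Q.natDegree ≤ Q.natDegree := by
    have := Polynomial.reverse_natDegree_le Q
    rwa [← h1, Polynomial.natDegree_mul hP (pow_ne_zero _ Polynomial.X_ne_zero), Polynomial.natDegree_X_pow] at this
  have hP0 : P = Polynomial.C (P.coeff 0) := Polynomial.eq_C_of_natDegree_eq_zero (by omega)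
  have hQ : Q = Polynomial.C (P.coeff 0) := poly_ext fun t => by
    have := h t⁻¹
    rw [inv_inv, hP0, Polynomial.eval_C] at this
    rw [Polynomial.eval_C, ← this]
  rw [hP0, hQ]
  simp

theorem exists_pt_ne_zero {a : A} (h : ¬ IsNilpotent a) : ∃ g : A →ₐ[k] k, g a ≠ 0 := by
  haveI : IsJacobsonRing A := isJacobsonRing_of_finiteType (A := k)
  by_contra hcon
  push Not at hcon
  refine h (mem_nilradical.1 ?_)
  rw [nilradical, Ideal.zero_eq_bot, Ideal.radical_eq_jacobson, Ideal.jacobson, Ideal.mem_sInf]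
  rintro m ⟨-, hm⟩
  obtain ⟨g, hg⟩ := Orbits.exists_pt (k := k) hm.ne_top
  rw [hm.eq_of_le (RingHom.ker_ne_top g) hg, RingHom.mem_ker]
  exact hcon g

/-- The main construction. -/
theorem exists_fixed [CharZero k] (he : Function.Surjective e) (hG : HopfRep.IsLinearlyReductive k A)
    {r : Fin N → ℤ} {w₀ : GLn N k →ₐ[k] k} (hlim : HasLim e r w₀) :
    ∃ (P₁ : Matrix (Fin N) (Fin N) k) (w : GLn N k →ₐ[k] k), Nonneg r P₁ ∧ IsUnit P₁.det ∧
      mat w = P₁ * mat w₀ ∧ ∀ f, InvF e f → ∀ t : kˣ, moved r t w f = w f := by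
  classical
  letI := rComod e
  haveI := isCoactAlg_rComod e
  obtain ⟨g₁, hg₁, hfix⟩ := exists_lim e hG hlim
  haveI : IsNoetherianRing A := Algebra.FiniteType.isNoetherianRing k A
  obtain ⟨n₀, hn₀⟩ := IsNoetherianRing.isNilpotent_nilradical A
  -- the elimination function
  let δ : GLn N k := gd N r (GLn.genMat N k * (mat g₁)⁻¹.map (algebraMap k (GLn N k)))
  have hδ : ∀ x : GLn N k →ₐ[k] k, x δ = gd N r (mat x * (mat g₁)⁻¹) := fun x => by
    rw [show x δ = x.toRingHom δ from rfl, ← gd_map, Matrix.map_mul]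
    congr 2
    ext i j
    simp
  let C : Ideal (GLn N k) := Ideal.span (Basic.cyclic (k := k) (A := A) (GLn N k) (δ ^ n₀) : Set (GLn N k))
  have hC : ¬ C ≤ RingHom.ker g₁ := fun hle => by
    have h1 : g₁ (δ ^ n₀) = 0 := hle (Ideal.subset_span (Basic.self_mem_cyclic _ _))
    rw [map_pow, hδ, Matrix.mul_nonsing_inv _ (isUnit_det g₁), gd_one, one_pow] at h1
    exact one_ne_zero h1
  obtain ⟨c, hc, hcC, hc1⟩ := LunaSurj.exists_invariant_mem hG (isClosedOrbit e he g₁)
    (Groth.Agent.Lib.Comod.Alg.isSubcomod_idealSpan (Basic.isSubcomod_cyclic _)) hC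
  have hcI : InvF e c := hc
  obtain ⟨Pc, hPc⟩ := hlim c hcI
  have hPc0 : Pc.eval 0 = 1 := by rw [← hg₁ c hcI Pc hPc, hc1]
  obtain ⟨s, hs⟩ : ∃ s : kˣ, moved r s w₀ c ≠ 0 := by
    by_contra hcon
    push Not at hcon
    have : Pc = 0 := poly_ext fun t => by rw [← hPc, hcon, Polynomial.eval_zero]
    rw [this, Polynomial.eval_zero] at hPc0
    exact zero_ne_one hPc0
  let x₀ := moved r s w₀
  obtain ⟨h, hh⟩ : ∃ h : A →ₐ[k] k, h (GLin.orbitHom k A x₀ δ) ≠ 0 := by
    refine exists_pt_ne_zero fun hnil => hs ?_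
    have hz : GLin.orbitHom k A x₀ (δ ^ n₀) = 0 := by
      rw [map_pow]
      have := Ideal.pow_mem_pow (mem_nilradical.2 hnil) n₀
      rwa [hn₀] at this
    have hle : C ≤ RingHom.ker x₀ := by
      refine Ideal.span_le.2 ?_
      rintro _ ⟨ψ, rfl⟩
      rw [SetLike.mem_coe, RingHom.mem_ker, Basic.dactAt_apply, ← Orbits.apply_orbitHom, hz, map_zero]
    exact hle hcC
  let x := GLin.actPt k h x₀
  have hx : mat x = mat x₀ * rho e h := mat_actPt e h x₀
  obtain ⟨p, p', q, hp, hp', hq, hpp, hqd, hpq⟩ := gd_spec N r (mat x * (mat g₁)⁻¹) (by rw [← hδ]; exact hh)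
  have hqg : q * mat g₁ = p' * mat x₀ * rho e h := by
    rw [Matrix.mul_assoc, ← hx, show mat x = p * q * mat g₁ by
      rw [← hpq, Matrix.nonsing_inv_mul_cancel_right _ _ (isUnit_det g₁)], ← Matrix.mul_assoc, ← Matrix.mul_assoc,
      hpp, Matrix.one_mul]
  have hp'd : IsUnit p'.det := IsUnit.of_mul_eq_one p.det (by rw [← Matrix.det_mul, hpp, Matrix.det_one])
  obtain ⟨yq, hyq, hyq0⟩ := exists_polyMat (r := -r) hq (by rw [hqd]; exact isUnit_one)
  obtain ⟨yp, hyp, -⟩ := exists_polyMat hp' hp'd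
  -- the Levi part
  let q₀ : Matrix (Fin N) (Fin N) k := Matrix.of fun i j => if r i = r j then q i j else 0
  let ev : k → (Polynomial k →ₐ[k] k) := fun a => Polynomial.aeval a
  have hev : ∀ (a : k) (P : Polynomial k), ev a P = P.eval a := fun a P => by
    simp [ev, Polynomial.coe_aeval_eq_eval]
  have hq0 : mat ((ev 0).comp yq) = q₀ := by
    rw [mat_comp]
    ext i j
    rw [Matrix.map_apply, hev, show Polynomial.eval 0 (mat yq i j) = _ from congrFun (congrFun hyq0 i) j]
    simp [q₀]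
  have hq₀d : IsUnit q₀.det := hq0 ▸ isUnit_det _
  let G₁ : GLn N k →ₐ[k] Polynomial k := (Algebra.ofId k (Polynomial k)).comp g₁
  have hG₁ : ∀ a, (ev a).comp G₁ = g₁ := fun a => algHom_ext_X fun i j => by simp [G₁, ev]
  have hmulev : ∀ (a : k) (y y' : GLn N k →ₐ[k] Polynomial k),
      mat ((ev a).comp (mulP y y')) = mat ((ev a).comp y) * mat ((ev a).comp y') := fun a y y' => by
    simp only [mat_comp, mat_mulP, ← AlgHom.coe_toRingHom, Matrix.map_mul]
  have hevt : ∀ (y : GLn N k →ₐ[k] Polynomial k) (a : k), mat ((ev a).comp y) = (mat y).map (Polynomial.eval a) :=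
    fun y a => by
      ext i j
      exact hev a _
  -- the two expansions
  have key : ∀ f, InvF e f → ∀ y : GLn N k →ₐ[k] k, mat y = q * mat g₁ →
      ∀ y₀ : GLn N k →ₐ[k] k, mat y₀ = q₀ * mat g₁ → y f = y₀ f := by
    intro f hf y hy y₀ hy₀
    let Q : Polynomial k := mulP yq G₁ f
    have hQ : ∀ (a : k), Q.eval a = ((ev a).comp (mulP yq G₁)) f := fun a => (hev a _).symm
    -- the positive expansion
    let Cc := kˣ → k
    let g : Polynomial k →ₐ[k] Cc := Pi.algHom k (fun _ => k) fun t => ev (t : k)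
    let ψ : GLn N k →ₐ[k] Cc := Pi.algHom k (fun _ => k) fun t => moved r t x₀
    let emb : Polynomial k →ₐ[k] Cc := Pi.algHom k (fun _ => k) fun t => ev (t : k)
    have hmem := mulP_mem e hf yp g ψ emb.range (fun b => ⟨b, rfl⟩) fun f' hf' => by
      obtain ⟨P, hP⟩ := (hlim.moved e s) f' hf'
      exact ⟨P, funext fun t => (hev _ P).trans (hP t).symm⟩
    obtain ⟨P, hP⟩ := hmem
    let evC : kˣ → (Cc →ₐ[k] k) := fun t => Pi.evalAlgHom k (fun _ => k) t
    have hPt : ∀ t : kˣ, P.eval (t : k) = Q.eval ((t⁻¹ : kˣ) : k) := fun t => by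
      rw [← hev, show ev (t : k) P = evC t (emb P) from rfl]
      rw [show emb P = mulP (g.comp yp) ψ f from hP, hQ]
      let z₁ := (evC t).comp (mulP (g.comp yp) ψ)
      let z₂ := (ev ((t⁻¹ : kˣ) : k)).comp (mulP yq G₁)
      change z₁ f = z₂ f
      have hz₁ : mat z₁ = dg r t * p' * dg r t⁻¹ * (dg r t * mat x₀) := by
        simp only [z₁, mat_comp, mat_mulP, ← AlgHom.coe_toRingHom, Matrix.map_mul]
        congr 1
        · rw [← hyp t, ← hevt]
          rfl
        · rw [← mat_moved]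
          rfl
      have hz₂ : mat z₂ = dg r t * q * dg r t⁻¹ * mat g₁ := by
        simp only [z₂, hmulev, hG₁, hevt, hyq]
        congr 2
        · congr 1
          simp [dg]
        · simp [dg]
      let w₂ : GLn N k →ₐ[k] k := ofMat (dg r t * q) (by
        rw [Matrix.det_mul, hqd, mul_one]; exact isUnit_det_dg r t)
      obtain ⟨f', hf', hz⟩ := exists_translate e hf w₂
      have e2 : z₂ = mulP w₂ (moved r t⁻¹ g₁) := mat_ext (by simp [hz₂, w₂, Matrix.mul_assoc])
      rw [e2, hz, hfix f' hf', ← hz]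
      refine (invF_translate e hf z₁ (mulP w₂ g₁) h ?_).symm
      rw [hz₁, mat_mulP]
      simp only [w₂, mat_ofMat, Matrix.mul_assoc, hqg]
      rw [← Matrix.mul_assoc (dg r t⁻¹) (dg r t), ← dg_mul, inv_mul_cancel, dg_one, Matrix.one_mul]
    have hfin := const_of_poly_inv hPt
    have h1 : Q.eval 1 = y f := by
      rw [hQ]
      congr 1
      refine mat_ext ?_
      rw [hmulev, hG₁, hevt, show (1 : k) = ((1 : kˣ) : k) from rfl, hyq, inv_one, dg_one, Matrix.one_mul,
        Matrix.mul_one, hy]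
    have h0 : Q.eval 0 = y₀ f := by
      rw [hQ]
      congr 1
      refine mat_ext ?_
      rw [hmulev, hG₁, hq0, hy₀]
    have h1' := hPt 1
    rw [inv_one, Units.val_one, h1] at h1'
    rw [← h1', hfin, h0]
  -- the fixed point
  let P₁ := q₀⁻¹ * (p' * dg r s)
  have hq₀inv : Nonneg r q₀⁻¹ := by
    let E : Matrix (Fin N) (Fin N) k := Matrix.diagonal fun i => (r i : k)
    have hcomm : E * q₀ = q₀ * E := by
      ext i j
      simp only [E, Matrix.diagonal_mul, Matrix.mul_diagonal, q₀, Matrix.of_apply]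
      split_ifs with h
      · rw [h, mul_comm]
      · simp
    have hcomm' : E * q₀⁻¹ = q₀⁻¹ * E := by
      calc E * q₀⁻¹ = q₀⁻¹ * q₀ * E * q₀⁻¹ := by rw [Matrix.nonsing_inv_mul _ hq₀d, Matrix.one_mul]
        _ = q₀⁻¹ * E * q₀ * q₀⁻¹ := by rw [Matrix.mul_assoc q₀⁻¹, ← hcomm, ← Matrix.mul_assoc q₀⁻¹]
        _ = q₀⁻¹ * E := Matrix.mul_nonsing_inv_cancel_right _ _ hq₀d
    intro i j hij
    have h := congrFun (congrFun hcomm' i) j
    simp only [E, Matrix.diagonal_mul, Matrix.mul_diagonal] at h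
    rw [mul_comm] at h
    exact (Int.cast_injective (mul_left_cancel₀ hij h)).ge
  have hP₁ : IsUnit P₁.det := by
    simp only [P₁, Matrix.det_mul]
    exact ((Matrix.isUnit_nonsing_inv_det _ hq₀d)).mul (hp'd.mul (isUnit_det_dg r s))
  let w : GLn N k →ₐ[k] k := ofMat (P₁ * mat w₀) (by rw [Matrix.det_mul]; exact hP₁.mul (isUnit_det w₀))
  refine ⟨P₁, w, hq₀inv.mul (hp'.mul (Nonneg.diagonal r _)), hP₁, mat_ofMat _ _, fun f hf t => ?_⟩
  have hw : ∀ f, InvF e f → w f = g₁ f := fun f hf => by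
    let yi : GLn N k →ₐ[k] k := ofMat q₀⁻¹ (Matrix.isUnit_nonsing_inv_det _ hq₀d)
    let yqg : GLn N k →ₐ[k] k := ofMat (q * mat g₁) (by rw [Matrix.det_mul, hqd, one_mul]; exact isUnit_det g₁)
    let y₀g : GLn N k →ₐ[k] k := ofMat (q₀ * mat g₁) (by rw [Matrix.det_mul]; exact hq₀d.mul (isUnit_det g₁))
    obtain ⟨f', hf', hz⟩ := exists_translate e hf yi
    have e1 : mulP yi yqg f = w f := invF_translate e hf w (mulP yi yqg) h (by
      simp only [yi, yqg, w, mat_mulP, mat_ofMat, hqg, x₀, mat_moved, P₁, Matrix.mul_assoc])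
    rw [← e1, hz, key f' hf' yqg (mat_ofMat _ _) y₀g (mat_ofMat _ _), ← hz]
    congr 1
    exact mat_ext (by simp [yi, y₀g, Matrix.nonsing_inv_mul_cancel_left _ _ hq₀d])
  obtain ⟨f', hf', hz⟩ := exists_translate e hf (ofMat (dg r t) (isUnit_det_dg r t))
  have hy : ∀ z, mulP (ofMat (dg r t) (isUnit_det_dg r t)) z = moved r t z := fun z => mat_ext (by simp)
  rw [← hy, hz, hw f' hf', ← hz, hy, hfix f hf, hw f hf]

end

end Groth.Agent.H60.HM
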