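import Groth.Agent.H60.HM.Point
import Groth.Agent.S16480
import Mathlib.LinearAlgebra.Matrix.SchurComplement

/-!
A linear action on an affine space as right multiplication of row vectors by a group of matrices.
-/

set_option autoImplicit false

universe u

open TensorProduct CoordGrp Groth.Agent.Lib.Comod Matrix

namespace Groth.Agent.H60.HM

noncomputable section

variable {k : Type u} [Field k] {A : Type u} [CommRing A] [HopfAlgebra k A]

/-- The coordinates of a moved vector. -/
def mv {ι : Type u} [Fintype ι] [HopfRep.Comod k A (MvPolynomial ι k)] [GLin.IsCoactAlg k A (MvPolynomial ι k)]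
    {B : Type u} [CommRing B] [Algebra k B] (g : A →ₐ[k] B) (v : ι → k) : ι → B :=
  fun i => g (GLin.orbitHom k A (GLin.vecPt k ι v) (MvPolynomial.X i))

/-- The matrix of a linear action is multiplicative. -/
theorem exists_matrix {ι : Type u} [Fintype ι] [DecidableEq ι] [HopfRep.Comod k A (MvPolynomial ι k)]
    [GLin.IsCoactAlg k A (MvPolynomial ι k)] (hlin : GLin.IsLinear k A ι) :
    ∃ P : Matrix ι ι A,
      (∀ i, HopfRep.Comod.coact (k := k) (A := A) (MvPolynomial.X i : MvPolynomial ι k) =
        ∑ j, (MvPolynomial.X j : MvPolynomial ι k) ⊗ₜ[k] P j i) ∧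
      (∀ i j, CoalgebraStruct.comul (R := k) (P i j) = ∑ l, P i l ⊗ₜ[k] P l j) ∧
      (∀ i j, CoalgebraStruct.counit (R := k) (P i j) = if i = j then (1 : k) else 0) := by
  classical
  choose m hm using hlin
  let χ : ι → MvPolynomial ι k →ₗ[k] k := fun j => MvPolynomial.lcoeff k (Finsupp.single j 1)
  have hχ : ∀ i j : ι, χ j (MvPolynomial.X i) = if i = j then 1 else 0 := fun i j => by
    simp [χ, MvPolynomial.coeff_X', Finsupp.single_left_inj one_ne_zero]
  refine ⟨Matrix.of fun j i => m i j, fun i => hm i, fun l i => ?_, fun j i => ?_⟩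
  · have h := LinearMap.congr_fun (HopfRep.Comod.coassoc (k := k) (A := A) (V := MvPolynomial ι k)) (MvPolynomial.X i)
    simp only [LinearMap.comp_apply, hm, map_sum, LinearMap.rTensor_tmul, LinearMap.lTensor_tmul,
      TensorProduct.sum_tmul, LinearEquiv.coe_coe, TensorProduct.assoc_tmul] at h
    have h2 := congrArg (fun z => TensorProduct.lid k (A ⊗[k] A) ((χ l).rTensor (A ⊗[k] A) z)) h
    simp only [map_sum, LinearMap.rTensor_tmul, hχ, TensorProduct.lid_tmul, ite_smul, one_smul, zero_smul,
      Finset.sum_ite_eq', Finset.mem_univ, if_true] at h2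
    simp only [Matrix.of_apply]
    exact h2.symm
  · have h := LinearMap.congr_fun (HopfRep.Comod.counit_comp (k := k) (A := A) (V := MvPolynomial ι k)) (MvPolynomial.X i)
    simp only [LinearMap.comp_apply, hm, map_sum, LinearMap.lTensor_tmul] at h
    have h2 := congrArg (fun z => χ j (TensorProduct.rid k (MvPolynomial ι k) z)) h
    simp only [LinearMap.comp_apply, LinearEquiv.coe_coe, TensorProduct.rid_tmul, map_sum, map_smul, hχ,
      TensorProduct.mk_apply, LinearMap.flip_apply, smul_eq_mul, mul_ite, mul_one, mul_zero, one_smul,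
      Finset.sum_ite_eq', Finset.mem_univ, if_true] at h2
    simp only [Matrix.of_apply]
    rw [h2]
    simp [eq_comm]

variable [Algebra.FiniteType k A]

/-- A closed embedding in a general linear group containing a given linear action as a block. -/
theorem exists_embed {ι : Type u} [Fintype ι] [HopfRep.Comod k A (MvPolynomial ι k)]
    [GLin.IsCoactAlg k A (MvPolynomial ι k)] (hlin : GLin.IsLinear k A ι) :
    ∃ (N : ℕ) (e : GLn N k →ₐc[k] A) (σ : ι → Fin N), Function.Surjective e ∧ Function.Injective σ ∧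
      ∀ (B : Type u) [CommRing B] [Algebra k B] (g : A →ₐ[k] B) (v : ι → k),
        (Function.extend σ (fun i => algebraMap k B (v i)) 0) ᵥ* rho e g = Function.extend σ (mv g v) 0 := by
  classical
  obtain ⟨M, hM, hMc, hMe⟩ := exists_matrix hlin
  obtain ⟨n, π, hπ⟩ := Groth.Agent.S16480.result k A
  let P₀ : Matrix (Fin n) (Fin n) A := fun i j => π (GLn.X i j)
  have hPc : ∀ i j, CoalgebraStruct.comul (R := k) (P₀ i j) = ∑ l, P₀ i l ⊗ₜ[k] P₀ l j := fun i j => by
    simp only [P₀]
    rw [← CoalgHomClass.map_comp_comul_apply π, GLn.comul_X, map_sum]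
    simp
  have hPe : ∀ i j, CoalgebraStruct.counit (R := k) (P₀ i j) = if i = j then (1 : k) else 0 := fun i j => by
    simp only [P₀]
    rw [CoalgHomClass.counit_comp_apply, GLn.counit_X]
  let E := Fintype.equivFin (Fin n ⊕ ι)
  let S : Matrix (Fin n ⊕ ι) (Fin n ⊕ ι) A := Matrix.fromBlocks P₀ 0 0 M
  have hSc : ∀ i j, CoalgebraStruct.comul (R := k) (S i j) = ∑ l, S i l ⊗ₜ[k] S l j := by
    rintro (i | i) (j | j) <;> simp [S, Fintype.sum_sum_type, hPc, hMc]
  have hSe : ∀ i j, CoalgebraStruct.counit (R := k) (S i j) = if i = j then (1 : k) else 0 := by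
    rintro (i | i) (j | j) <;> simp [S, hPe, hMe]
  let P : Matrix (Fin (Fintype.card (Fin n ⊕ ι))) (Fin (Fintype.card (Fin n ⊕ ι))) A := S.submatrix E.symm E.symm
  let e := homOf (k := k) P
    (fun i j => (hSc _ _).trans (Fintype.sum_equiv E _ _ fun l => by simp [P]))
    (fun i j => (hSe _ _).trans (by simp [E.symm.injective.eq_iff]))
  have heX : ∀ i j, e (GLn.X i j) = P i j := homOf_X P _ _
  refine ⟨_, e, E ∘ Sum.inr, ?_, E.injective.comp Sum.inr_injective, fun B _ _ g v => ?_⟩
  · intro a
    obtain ⟨f, rfl⟩ := hπ a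
    let R := (e : GLn (Fintype.card (Fin n ⊕ ι)) k →ₐ[k] A).range
    have hP : ∀ i j, P₀ i j ∈ R := fun i j => ⟨GLn.X (E (Sum.inl i)) (E (Sum.inl j)), by
      refine (heX _ _).trans ?_; simp [P, S]⟩
    have hMR : ∀ i j, M i j ∈ R := fun i j => ⟨GLn.X (E (Sum.inr i)) (E (Sum.inr j)), by
      refine (heX _ _).trans ?_; simp [P, S]⟩
    have hd : M.det * e (GLn.Dinv) = π GLn.Dinv := by
      have hMd : M.det ∈ R := by
        rw [Matrix.det_apply]
        exact Subalgebra.sum_mem _ fun σ _ => Subalgebra.zsmul_mem _ (Subalgebra.prod_mem _ fun i _ => hMR _ _) _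
      have h1 : e GLn.det = P₀.det * M.det := by
        rw [show e (GLn.det) = (mat (e : GLn (Fintype.card (Fin n ⊕ ι)) k →ₐ[k] A)).det from map_det (e : GLn (Fintype.card (Fin n ⊕ ι)) k →ₐ[k] A),
          show mat (e : GLn (Fintype.card (Fin n ⊕ ι)) k →ₐ[k] A) = P from Matrix.ext heX]
        simp [P, S, Matrix.det_submatrix_equiv_self, Matrix.det_fromBlocks_zero₂₁]
      have h2 : π GLn.Dinv * P₀.det = 1 := by
        rw [show P₀.det = π GLn.det from (map_det (π : GLn n k →ₐ[k] A)).symm, ← map_mul, GLn.Dinv_mul_det, map_one]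
      have h3 : P₀.det * (M.det * e GLn.Dinv) = 1 := by
        rw [← mul_assoc, ← h1, ← map_mul, GLn.det_mul_Dinv, map_one]
      exact (left_inv_eq_right_inv h2 h3).symm
    have hD : π GLn.Dinv ∈ R := by
      rw [← hd]
      refine Subalgebra.mul_mem _ ?_ ⟨GLn.Dinv, rfl⟩
      rw [Matrix.det_apply]
      exact Subalgebra.sum_mem _ fun σ _ => Subalgebra.zsmul_mem _ (Subalgebra.prod_mem _ fun i _ => hMR _ _) _
    exact (subalgebra_eq_top (R.comap (π : GLn n k →ₐ[k] A)) hP hD).ge (Algebra.mem_top (x := f))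
  · have hg : ∀ a b, rho e g a b = g (P a b) := fun a b => congrArg g (heX a b)
    funext c
    obtain ⟨c, rfl⟩ := E.surjective c
    rw [Matrix.vecMul, dotProduct, ← E.sum_comp]
    simp only [hg, P, Matrix.submatrix_apply, Equiv.symm_apply_apply, Fintype.sum_sum_type]
    have hl : ∀ (f : ι → B) (a : Fin n), Function.extend (E ∘ Sum.inr) f 0 (E (Sum.inl a)) = 0 := fun f a => by
      rw [Function.extend_apply' _ _ _ (by rintro ⟨i, hi⟩; exact Sum.inr_ne_inl (E.injective hi))]
      rfl
    have hr : ∀ (f : ι → B) (a : ι), Function.extend (E ∘ Sum.inr) f 0 (E (Sum.inr a)) = f a := fun f a =>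
      (E.injective.comp Sum.inr_injective).extend_apply f 0 a
    simp only [hl, hr, zero_mul, Finset.sum_const_zero, zero_add]
    rcases c with a | i
    · simp [S, hl]
    · rw [hr, mv, GLin.orbitHom, AlgHom.comp_apply, AlgHom.comp_apply, GLin.coactAlgHom_apply, hM, map_sum, map_sum,
        map_sum]
      refine Finset.sum_congr rfl fun j _ => ?_
      simp [S, Algebra.smul_def]

end

end Groth.Agent.H60.HM
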