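import Groth.Agent.H60.HM.Point
import Mathlib.Algebra.MonoidAlgebra.Basic

/-!
Weights of invariant functions on the general linear group for left translation by diagonal matrices,
and left translates of invariant functions.
-/

set_option autoImplicit false

universe u v w

open TensorProduct CoordGrp Groth.Agent.Lib.Comod

namespace Groth.Agent.H60.HM

noncomputable section

variable {k : Type u} [Field k] {N : ℕ}

/-- The weights. -/
abbrev Wt (N : ℕ) : Type := Fin N → ℤ

section Wgt

variable {B : Type v} [CommRing B] [Algebra k B]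

/-- The monomial of the `i`-th diagonal entry. -/
def dgT (B : Type v) [CommRing B] (i : Fin N) : AddMonoidAlgebra B (Wt N) :=
  AddMonoidAlgebra.single (Pi.single i 1) 1

theorem isUnit_dgT (i : Fin N) : IsUnit (dgT B i) :=
  IsUnit.of_mul_eq_one (AddMonoidAlgebra.single (-(Pi.single i 1)) 1) (by
    rw [dgT, AddMonoidAlgebra.single_mul_single, add_neg_cancel, _root_.mul_one]; rfl)

/-- A point moved by the generic diagonal matrix. -/
def wgt (φ : GLn N k →ₐ[k] B) : GLn N k →ₐ[k] AddMonoidAlgebra B (Wt N) :=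
  ofMat (Matrix.diagonal (dgT B) * (mat φ).map AddMonoidAlgebra.singleZeroRingHom) (by
    rw [Matrix.det_mul, Matrix.det_diagonal, ← RingHom.mapMatrix_apply, ← RingHom.map_det]
    exact (IsUnit.prod_iff.2 fun i _ => isUnit_dgT i).mul ((isUnit_det φ).map _))

theorem wgt_X (φ : GLn N k →ₐ[k] B) (i j : Fin N) :
    wgt φ (GLn.X i j) = AddMonoidAlgebra.single (Pi.single i 1) (φ (GLn.X i j)) := by
  change mat (wgt φ) i j = _
  rw [wgt, mat_ofMat]
  rw [Matrix.diagonal_mul, Matrix.map_apply, dgT]
  change AddMonoidAlgebra.single _ _ * AddMonoidAlgebra.single 0 _ = _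
  rw [AddMonoidAlgebra.single_mul_single, add_zero, _root_.one_mul]
  rfl

theorem wgt_comp {C : Type w} [CommRing C] [Algebra k C] (f : B →ₐ[k] C) (φ : GLn N k →ₐ[k] B) :
    (AddMonoidAlgebra.mapAlgHom (Wt N) f).comp (wgt φ) = wgt (f.comp φ) :=
  algHom_ext_X fun i j => by
    rw [AlgHom.comp_apply, wgt_X, wgt_X, AddMonoidAlgebra.mapAlgHom_single]
    rfl

/-- The character of weights given by invertible scalars. -/
def wChar (d : Fin N → Bˣ) : Multiplicative (Wt N) →* B where
  toFun e := ((∏ i, d i ^ e.toAdd i : Bˣ) : B)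
  map_one' := by simp
  map_mul' x y := by
    simp only [toAdd_mul, Pi.add_apply, zpow_add, Finset.prod_mul_distrib, Units.val_mul]

theorem wChar_apply (d : Fin N → Bˣ) (e : Wt N) :
    wChar d (Multiplicative.ofAdd e) = ((∏ i, d i ^ e i : Bˣ) : B) := rfl

theorem wChar_single (d : Fin N → Bˣ) (i : Fin N) :
    wChar d (Multiplicative.ofAdd (Pi.single i 1)) = d i := by
  classical
  rw [wChar_apply, Finset.prod_eq_single i (fun j _ hj => by simp [Pi.single_eq_of_ne hj])
    (fun h => (h (Finset.mem_univ i)).elim)]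
  simp

end Wgt

/-- The weight decomposition of functions. -/
def wDec : GLn N k →ₐ[k] AddMonoidAlgebra (GLn N k) (Wt N) := wgt (AlgHom.id k (GLn N k))

/-- The component of weight `e`. -/
def comp (f : GLn N k) (e : Wt N) : GLn N k := (wDec f).coeff e

/-- The weights occurring in a function. -/
def wts (f : GLn N k) : Finset (Wt N) := (wDec f).coeff.support

theorem wgt_eq {B : Type v} [CommRing B] [Algebra k B] (φ : GLn N k →ₐ[k] B) :
    wgt φ = (AddMonoidAlgebra.mapAlgHom (Wt N) φ).comp wDec := by
  rw [wDec, wgt_comp, AlgHom.comp_id]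

/-- Evaluation after moving by a diagonal matrix. -/
theorem ofMat_diagonal_mul {B : Type v} [CommRing B] [Algebra k B] (φ : GLn N k →ₐ[k] B) (d : Fin N → Bˣ)
    (h : IsUnit (Matrix.diagonal (fun i => (d i : B)) * mat φ).det) (f : GLn N k) :
    ofMat (k := k) _ h f = ∑ e ∈ wts f, ((∏ i, d i ^ e i : Bˣ) : B) * φ (comp f e) := by
  let E : AddMonoidAlgebra B (Wt N) →ₐ[k] B :=
    (AddMonoidAlgebra.lift B B (Wt N) (wChar d)).restrictScalars k
  have h1 : ofMat (k := k) _ h = E.comp (wgt φ) := algHom_ext_X fun i j => by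
    rw [show ofMat (k := k) _ h (GLn.X i j) = _ from congrFun (congrFun (mat_ofMat _ h) i) j, AlgHom.comp_apply, wgt_X]
    simp only [E, AlgHom.restrictScalars_apply, AddMonoidAlgebra.lift_single, wChar_single, smul_eq_mul,
      Matrix.diagonal_mul, mat]
    exact mul_comm _ _
  rw [h1, wgt_eq]
  simp only [AlgHom.comp_apply]
  conv_lhs => rw [← AddMonoidAlgebra.sum_coeff_single (wDec f)]
  rw [map_finsuppSum, map_finsuppSum, Finsupp.sum]
  refine Finset.sum_congr rfl fun e _ => ?_
  simp only [AddMonoidAlgebra.mapAlgHom_single, E, AlgHom.restrictScalars_apply, AddMonoidAlgebra.lift_single,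
    smul_eq_mul, wChar_apply]
  exact mul_comm _ _

theorem comp_eq_zero {f : GLn N k} {e : Wt N} (h : e ∉ wts f) : comp f e = 0 := Finsupp.notMem_support_iff.1 h

/-- The components are homogeneous. -/
theorem wDec_comp (f : GLn N k) (e : Wt N) : wDec (comp f e) = AddMonoidAlgebra.single e (comp f e) := by
  classical
  let χ : Multiplicative (Wt N) →* AddMonoidAlgebra (AddMonoidAlgebra (GLn N k) (Wt N)) (Wt N) :=
    { toFun := fun e => AddMonoidAlgebra.single e.toAdd (AddMonoidAlgebra.single e.toAdd 1)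
      map_one' := rfl
      map_mul' := fun x y => by simp [AddMonoidAlgebra.single_mul_single] }
  let dd : AddMonoidAlgebra (GLn N k) (Wt N) →ₐ[k] AddMonoidAlgebra (AddMonoidAlgebra (GLn N k) (Wt N)) (Wt N) :=
    (AddMonoidAlgebra.lift (GLn N k) _ (Wt N) χ).restrictScalars k
  have hdd : ∀ (e' : Wt N) (c : GLn N k), dd (AddMonoidAlgebra.single e' c) =
      AddMonoidAlgebra.single e' (AddMonoidAlgebra.single e' c) := fun e' c => by
    simp [dd, χ, AddMonoidAlgebra.smul_single, Algebra.smul_def]
  have h : (AddMonoidAlgebra.mapAlgHom (Wt N) wDec).comp wDec = dd.comp wDec := algHom_ext_X fun i j => by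
    simp only [AlgHom.comp_apply, wDec, wgt_X, AddMonoidAlgebra.mapAlgHom_single, hdd, AlgHom.id_apply]
  have h2 := congrArg (fun x : AddMonoidAlgebra _ (Wt N) => x.coeff e) (AlgHom.congr_fun h f)
  simp only [AlgHom.comp_apply, AddMonoidAlgebra.coeff_mapAlgHom] at h2
  rw [show comp f e = (wDec f).coeff e from rfl, h2]
  clear h2 h
  conv_lhs => rw [← AddMonoidAlgebra.sum_coeff_single (wDec f)]
  rw [map_finsuppSum, Finsupp.sum]
  simp only [hdd, AddMonoidAlgebra.coeff_sum, Finsupp.finsetSum_apply, AddMonoidAlgebra.coeff_single,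
    Finsupp.single_apply]
  rw [Finset.sum_ite_eq']
  split_ifs with he
  · rfl
  · rw [Finsupp.notMem_support_iff.1 he, AddMonoidAlgebra.single_zero]

section Inv

variable {A : Type u} [CommRing A] [HopfAlgebra k A] (e : GLn N k →ₐc[k] A)

/-- The invariant functions. -/
def InvF (f : GLn N k) : Prop := (rComod e).coact f = f ⊗ₜ[k] (1 : A)

theorem invF_iff (f : GLn N k) :
    letI := rComod e
    haveI := isCoactAlg_rComod e
    InvF e f ↔ f ∈ GLin.invariants k A (GLn N k) := Iff.rfl

/-- Invariant functions take the same value at translates. -/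
theorem invF_translate {f : GLn N k} (hf : InvF e f) {B : Type v} [CommRing B] [Algebra k B]
    (φ φ' : GLn N k →ₐ[k] B) (g : A →ₐ[k] B) (h : mat φ' = mat φ * rho e g) : φ' f = φ f := by
  letI := rComod e
  haveI := isCoactAlg_rComod e
  have h1 : φ' = (Algebra.TensorProduct.productMap φ g).comp (GLin.coactAlgHom k A (GLn N k)) :=
    algHom_ext_X fun i j => by
      rw [AlgHom.comp_apply, GLin.coactAlgHom_apply, rComod_coact_X, map_sum]
      change mat φ' i j = _
      rw [h, Matrix.mul_apply]
      simp [mat, rho]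
  rw [h1, AlgHom.comp_apply, GLin.coactAlgHom_apply, show HopfRep.Comod.coact (k := k) (A := A) f = f ⊗ₜ[k] 1 from hf]
  simp

/-- Components of invariant functions are invariant. -/
theorem invF_comp {f : GLn N k} (hf : InvF e f) (d : Wt N) : InvF e (comp f d) := by
  letI := rComod e
  haveI := isCoactAlg_rComod e
  let incl : GLn N k →ₐ[k] GLn N k ⊗[k] A := Algebra.TensorProduct.includeLeft
  let Ψ : GLn N k ⊗[k] A →ₐ[k] AddMonoidAlgebra (GLn N k ⊗[k] A) (Wt N) :=
    Algebra.TensorProduct.productMap ((AddMonoidAlgebra.mapAlgHom (Wt N) incl).comp wDec)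
      (AddMonoidAlgebra.singleZeroAlgHom.comp Algebra.TensorProduct.includeRight)
  have h1 : (AddMonoidAlgebra.mapAlgHom (Wt N) (GLin.coactAlgHom k A (GLn N k))).comp wDec =
      Ψ.comp (GLin.coactAlgHom k A (GLn N k)) := algHom_ext_X fun i j => by
    simp only [AlgHom.comp_apply, wDec, wgt_X, AddMonoidAlgebra.mapAlgHom_single, GLin.coactAlgHom_apply,
      AlgHom.id_apply, rComod_coact_X, map_sum]
    rw [show AddMonoidAlgebra.single (Pi.single i (1 : ℤ) : Wt N) (∑ l, GLn.X i l ⊗ₜ[k] e (GLn.X l j)) =
      ∑ l, AddMonoidAlgebra.single (Pi.single i (1 : ℤ) : Wt N) (GLn.X i l ⊗ₜ[k] e (GLn.X l j)) from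
        map_sum (AddMonoidAlgebra.singleAddHom (R := GLn N k ⊗[k] A) (Pi.single i (1 : ℤ) : Wt N)) _ _]
    refine Finset.sum_congr rfl fun l _ => ?_
    simp [Ψ, incl, wDec, wgt_X, AddMonoidAlgebra.single_mul_single]
  have h2 := congrArg (fun x : AddMonoidAlgebra _ (Wt N) => x.coeff d) (AlgHom.congr_fun h1 f)
  simp only [AlgHom.comp_apply, AddMonoidAlgebra.coeff_mapAlgHom, GLin.coactAlgHom_apply] at h2
  rw [show HopfRep.Comod.coact (k := k) (A := A) f = f ⊗ₜ[k] 1 from hf] at h2
  refine h2.trans ?_
  simp only [Ψ, Algebra.TensorProduct.productMap_apply_tmul, AlgHom.comp_apply, map_one, _root_.mul_one,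
    AddMonoidAlgebra.coeff_mapAlgHom]
  rfl

/-- Left translates of an invariant function by a family of matrices have invariant coefficients. -/
theorem invF_contract {f : GLn N k} (hf : InvF e f) {B : Type v} [CommRing B] [Algebra k B]
    (y : GLn N k →ₐ[k] B) (φ : B →ₗ[k] k) :
    InvF e (Basic.contract (GLn N k) φ
      (mulP (Algebra.TensorProduct.includeRight.comp y) Algebra.TensorProduct.includeLeft f)) := by
  letI := rComod e
  haveI := isCoactAlg_rComod e
  let co := GLin.coactAlgHom k A (GLn N k)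
  let incl : GLn N k →ₐ[k] GLn N k ⊗[k] A := Algebra.TensorProduct.includeLeft
  let z := mulP (Algebra.TensorProduct.includeRight.comp y) (Algebra.TensorProduct.includeLeft : GLn N k →ₐ[k] GLn N k ⊗[k] B)
  let Fc := (Algebra.TensorProduct.map co (AlgHom.id k B)).comp z
  let Fi := (Algebra.TensorProduct.map incl (AlgHom.id k B)).comp z
  have h : Fc f = Fi f := by
    refine invF_translate e hf Fi Fc
      ((Algebra.TensorProduct.includeLeft : GLn N k ⊗[k] A →ₐ[k] (GLn N k ⊗[k] A) ⊗[k] B).comp
        Algebra.TensorProduct.includeRight) ?_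
    simp only [Fc, Fi, mat_comp, z, mat_mulP, ← AlgHom.coe_toRingHom, Matrix.map_mul]
    rw [Matrix.mul_assoc]
    congr 1
    · ext i j
      simp [mat]
    · ext i j
      simp only [mat, Matrix.map_apply, rho, Matrix.mul_apply]
      simp only [AlgHom.coe_toRingHom, AlgHom.comp_apply, Algebra.TensorProduct.includeLeft_apply,
        Algebra.TensorProduct.map_tmul, co, incl, GLin.coactAlgHom_apply, rComod_coact_X, map_one,
        TensorProduct.sum_tmul]
      refine Finset.sum_congr rfl fun l _ => ?_
      simp [Algebra.TensorProduct.one_def]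
  change co (Basic.contract (GLn N k) φ (z f)) = incl (Basic.contract (GLn N k) φ (z f))
  have h3 := congrArg (Basic.contract (GLn N k ⊗[k] A) φ) h
  simp only [Fc, Fi, AlgHom.comp_apply] at h3
  rw [show Algebra.TensorProduct.map co (AlgHom.id k B) (z f) = co.toLinearMap.rTensor B (z f) from rfl,
    show Algebra.TensorProduct.map incl (AlgHom.id k B) (z f) = incl.toLinearMap.rTensor B (z f) from rfl,
    Basic.contract_rTensor, Basic.contract_rTensor] at h3
  exact h3

/-- Translates of invariant functions. -/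
theorem mulP_mem {f : GLn N k} (hf : InvF e f) {B : Type v} [CommRing B] [Algebra k B]
    (y : GLn N k →ₐ[k] B) {C : Type w} [CommRing C] [Algebra k C] (g : B →ₐ[k] C) (ψ : GLn N k →ₐ[k] C)
    (S : Subalgebra k C) (hg : ∀ b, g b ∈ S) (hψ : ∀ f', InvF e f' → ψ f' ∈ S) :
    mulP (g.comp y) ψ f ∈ S := by
  classical
  let z := mulP (Algebra.TensorProduct.includeRight.comp y) (Algebra.TensorProduct.includeLeft : GLn N k →ₐ[k] GLn N k ⊗[k] B)
  have h1 : mulP (g.comp y) ψ = (Algebra.TensorProduct.productMap ψ g).comp z := by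
    refine mat_ext ?_
    simp only [mat_mulP, mat_comp, z, ← AlgHom.coe_toRingHom, Matrix.map_mul]
    congr 1 <;> ext i j <;> simp [mat]
  rw [h1, AlgHom.comp_apply]
  let bas := Module.Free.chooseBasis k B
  rw [Basic.eq_sum_contract_tmul bas (z f), map_sum]
  refine Subalgebra.sum_mem _ fun l _ => ?_
  rw [Algebra.TensorProduct.productMap_apply_tmul]
  exact Subalgebra.mul_mem _ (hψ _ (invF_contract e hf y _)) (hg _)

/-- Translates by a point of invariant functions are invariant functions. -/
theorem exists_translate {f : GLn N k} (hf : InvF e f) (y : GLn N k →ₐ[k] k) :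
    ∃ f', InvF e f' ∧ ∀ z : GLn N k →ₐ[k] k, mulP y z f = z f' := by
  let z₀ := mulP (Algebra.TensorProduct.includeRight.comp y) (Algebra.TensorProduct.includeLeft : GLn N k →ₐ[k] GLn N k ⊗[k] k)
  refine ⟨Basic.contract (GLn N k) LinearMap.id (z₀ f), invF_contract e hf y _, fun z => ?_⟩
  have h1 : mulP y z = (Algebra.TensorProduct.productMap z (AlgHom.id k k)).comp z₀ := by
    refine mat_ext ?_
    simp only [mat_mulP, mat_comp, z₀, ← AlgHom.coe_toRingHom, Matrix.map_mul]
    congr 1 <;> ext i j <;> simp [mat]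
  rw [h1, AlgHom.comp_apply]
  induction z₀ f using TensorProduct.induction_on with
  | zero => simp
  | tmul r c => simp [mul_comm]
  | add p q hp hq => rw [map_add, hp, hq, map_add, map_add]

end Inv

end

end Groth.Agent.H60.HM
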