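import Groth.Agent.H60.HM.Core
import Groth.Agent.H60.Luna
import Groth.Agent.H60.SmithVal
import Groth.Agent.H60.OrderHom
import Mathlib.RingTheory.Valuation.ValuationSubring

/-!
From a valuation to weights along which all invariant functions have a limit.
-/

set_option autoImplicit false

universe u

open TensorProduct CoordGrp Groth.Agent.Lib.Comod Matrix

namespace Groth.Agent.H60.HM

noncomputable section

variable {k : Type u} [Field k] {N : ℕ}

theorem mat_inv_map {B C : Type u} [CommRing B] [Algebra k B] [CommRing C] [Algebra k C] (f : B →ₐ[k] C)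
    (φ : GLn N k →ₐ[k] B) : ((mat φ)⁻¹).map f = (mat (f.comp φ))⁻¹ := by
  refine (Matrix.inv_eq_left_inv ?_).symm
  rw [mat_comp, ← AlgHom.coe_toRingHom, ← Matrix.map_mul, Matrix.nonsing_inv_mul _ (isUnit_det φ)]
  simp

theorem comp_diag {B : Type u} [CommRing B] [Algebra k B] (φ : GLn N k →ₐ[k] B) (d : Fin N → Bˣ)
    (h : IsUnit (Matrix.diagonal (fun i => (d i : B)) * mat φ).det) (f : GLn N k) (e : Wt N) :
    ofMat (k := k) _ h (comp f e) = ((∏ i, d i ^ e i : Bˣ) : B) * φ (comp f e) := by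
  classical
  rw [ofMat_diagonal_mul φ d h]
  have hsub : wts (comp f e) ⊆ {e} := fun x hx => by
    rw [wts, wDec_comp] at hx
    exact Finsupp.support_single_subset hx
  rw [Finset.sum_subset hsub (fun x _ hx => by rw [comp_eq_zero hx, map_zero, mul_zero]), Finset.sum_singleton]
  congr 2
  rw [show comp (comp f e) e = (wDec (comp f e)).coeff e from rfl, wDec_comp]
  simp

theorem prod_zpow {G : Type*} [CommGroup G] {ι : Type*} (s : Finset ι) (f : ι → ℤ) (t : G) :
    ∏ i ∈ s, t ^ f i = t ^ ∑ i ∈ s, f i := by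
  classical
  induction s using Finset.induction_on with
  | empty => simp
  | insert a s ha ih => rw [Finset.prod_insert ha, Finset.sum_insert ha, zpow_add, ih]

/-- The moved point, evaluated by weights. -/
theorem moved_eq_sum (r : Fin N → ℤ) (t : kˣ) (x : GLn N k →ₐ[k] k) (f : GLn N k) :
    moved r t x f = ∑ e ∈ wts f, ((t ^ ∑ i, e i * r i : kˣ) : k) * x (comp f e) := by
  have h : IsUnit (Matrix.diagonal (fun i => ((t ^ r i : kˣ) : k)) * mat x).det := by
    rw [Matrix.det_mul]; exact (isUnit_det_dg r t).mul (isUnit_det x)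
  rw [show moved r t x = ofMat _ h from mat_ext (by rw [mat_moved, mat_ofMat]; rfl),
    ofMat_diagonal_mul x (fun i => t ^ r i) h]
  refine Finset.sum_congr rfl fun e _ => ?_
  congr 3
  rw [← prod_zpow]
  exact Finset.prod_congr rfl fun i _ => by rw [← zpow_mul, mul_comm]

variable {A : Type u} [CommRing A] [HopfAlgebra k A] (e : GLn N k →ₐc[k] A)

theorem of_valuation [IsAlgClosed k] [Algebra.FiniteType k A] (he : Function.Surjective e)
    (hG : HopfRep.IsLinearlyReductive k A) {K : Type u} [Field K] [Algebra k K] (V : ValuationSubring K)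
    (hk : ∀ c : k, algebraMap k K c ∈ V) (g : A →ₐ[k] K) (v : Fin N → k)
    (hv : ∀ i, ((algebraMap k K ∘ v) ᵥ* rho e g) i ∈ V)
    (hnt : (∃ a, g a ∉ V) ∨ (v ≠ 0 ∧ ∀ i, ((algebraMap k K ∘ v) ᵥ* rho e g) i ∈ V.nonunits)) :
    ∃ (r : Fin N → ℤ) (w₀ : GLn N k →ₐ[k] k), r ≠ 0 ∧ HasLim e r w₀ ∧
      (∀ a, (v ᵥ* (mat w₀)⁻¹) a ≠ 0 → r a ≤ 0) ∧
      ((∀ i, ((algebraMap k K ∘ v) ᵥ* rho e g) i ∈ V.nonunits) → ∀ a, (v ᵥ* (mat w₀)⁻¹) a ≠ 0 → r a < 0) := by
  classical
  letI := rComod e
  haveI := isCoactAlg_rComod e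
  obtain ⟨U, W, dd, hU, hW, hgUW⟩ := SmithVal.diagonalize (R := V) N (rho e g)
  change rho e g = U.map V.subtype * Matrix.diagonal dd * W.map V.subtype at hgUW
  have hd0 : ∀ i, dd i ≠ 0 := by
    have hu := isUnit_det_rho e g
    rw [hgUW, Matrix.det_mul, Matrix.det_mul, Matrix.det_diagonal] at hu
    have := (IsUnit.mul_iff.1 (IsUnit.mul_iff.1 hu).1).2
    exact fun i => (IsUnit.prod_iff.1 this i (Finset.mem_univ i)).ne_zero
  let kV : k →+* V := (algebraMap k K).codRestrict V.toSubring hk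
  letI : Algebra k V := kV.toAlgebra
  let valA : V →ₐ[k] K := { V.subtype with commutes' := fun _ => rfl }
  letI : Algebra k (IsLocalRing.ResidueField V) := ((IsLocalRing.residue V).comp kV).toAlgebra
  let resA : V →ₐ[k] IsLocalRing.ResidueField V := { IsLocalRing.residue V with commutes' := fun _ => rfl }
  have hUu : IsUnit U.det := hU ▸ isUnit_one
  have hWu : IsUnit W.det := hW ▸ isUnit_one
  let yU : GLn N k →ₐ[k] V := ofMat U⁻¹ (Matrix.isUnit_nonsing_inv_det _ hUu)
  let yW : GLn N k →ₐ[k] V := ofMat W hWu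
  let d : Fin N → Kˣ := fun i => (Units.mk0 (dd i) (hd0 i))⁻¹
  have hdet : IsUnit (Matrix.diagonal (fun i => (d i : K)) * mat (valA.comp yU)).det := by
    rw [Matrix.det_mul, Matrix.det_diagonal]
    exact (IsUnit.prod_iff.2 fun i _ => (d i).isUnit).mul (isUnit_det _)
  have hinvf : ∀ f, InvF e f → ofMat (k := k) _ hdet f = valA (yW f) := fun f hf => by
    refine (invF_translate e hf (ofMat (k := k) _ hdet) (valA.comp yW) g ?_).symm
    simp only [mat_comp, mat_ofMat, yU, yW, hgUW]
    have h1 : (U⁻¹).map valA * U.map V.subtype = 1 := by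
      rw [show (V.subtype : V → K) = valA from rfl, ← AlgHom.coe_toRingHom, ← Matrix.map_mul,
        Matrix.nonsing_inv_mul _ hUu]
      simp
    have h2 : Matrix.diagonal (fun i => (d i : K)) * Matrix.diagonal dd = 1 := by
      rw [Matrix.diagonal_mul_diagonal, ← Matrix.diagonal_one]
      congr 1
      funext i
      simp [d, hd0 i]
    rw [Matrix.mul_assoc, ← Matrix.mul_assoc ((U⁻¹).map valA), ← Matrix.mul_assoc ((U⁻¹).map valA), h1,
      Matrix.one_mul, ← Matrix.mul_assoc, h2, Matrix.one_mul]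
    rfl
  let ν : Fin N → Additive (V.ValueGroup)ˣ := fun i =>
    Additive.ofMul (Units.mk0 (V.valuation (dd i)) (by rw [ne_eq, map_eq_zero]; exact hd0 i))
  have hνle : ∀ w : Wt N, V.valuation ((∏ i, d i ^ w i : Kˣ) : K) ≤ 1 → 0 ≤ ∑ i, w i • ν i := by
    intro w hw
    have h : ∑ i, w i • ν i = -Additive.ofMul (Units.map V.valuation.toMonoidWithZeroHom.toMonoidHom (∏ i, d i ^ w i)) := by
      rw [map_prod, ← ofMul_inv, ← Finset.prod_inv_distrib]
      simp only [ν, ← ofMul_zpow, ← ofMul_prod]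
      congr 1
      refine Finset.prod_congr rfl fun i _ => ?_
      rw [map_zpow, ← inv_zpow, ← map_inv]
      congr 1
    rw [h, Left.nonneg_neg_iff]
    exact hw
  let p : GLn N k →ₐ[k] IsLocalRing.ResidueField V := resA.comp yU
  have hpv : ∀ f, p f ≠ 0 → V.valuation (valA (yU f)) = 1 := fun f hf =>
    (V.valuation_eq_one_iff _).1 ((IsLocalRing.residue_ne_zero_iff_isUnit _).1 hf)
  have hinvW : ∀ f, InvF e f → ∀ w, p (comp f w) ≠ 0 → 0 ≤ ∑ i, w i • ν i := fun f hf w hw => by
    refine hνle w ?_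
    have h1 := congrArg V.valuation ((comp_diag (valA.comp yU) d hdet f w).symm.trans (hinvf _ (invF_comp e hf w)))
    rw [map_mul, AlgHom.comp_apply, hpv _ hw, mul_one] at h1
    rw [h1]
    exact (V.valuation_le_one_iff _).2 (yW _).2
  -- the vector
  let Fv : Fin N → GLn N k :=
    (algebraMap k (GLn N k) ∘ v) ᵥ* (mat (AlgHom.id k (GLn N k)))⁻¹
  have hFv : ∀ {B : Type u} [CommRing B] [Algebra k B] (φ : GLn N k →ₐ[k] B) (a : Fin N),
      φ (Fv a) = ((algebraMap k B ∘ v) ᵥ* (mat φ)⁻¹) a := by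
    intro B _ _ φ a
    have h1 := mat_inv_map φ (AlgHom.id k (GLn N k))
    rw [AlgHom.comp_id] at h1
    simp only [Fv, Matrix.vecMul, dotProduct, map_sum, map_mul, Function.comp_apply, AlgHom.commutes, ← h1,
      Matrix.map_apply]
  let uV : Fin N → V := fun a => yU (Fv a)
  have huK : ∀ a, (valA (uV a)) = ((algebraMap k K ∘ v) ᵥ* U.map V.subtype) a := fun a => by
    rw [show valA (uV a) = (valA.comp yU) (Fv a) from rfl, hFv, ← mat_inv_map, mat_ofMat,
      Matrix.nonsing_inv_nonsing_inv _ hUu]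
    rfl
  have hvec : ∀ a, valA (uV a) * dd a = ∑ i, ((algebraMap k K ∘ v) ᵥ* rho e g) i * ((W⁻¹).map V.subtype) i a := by
    intro a
    change _ = (((algebraMap k K ∘ v) ᵥ* rho e g) ᵥ* (W⁻¹).map V.subtype) a
    rw [Matrix.vecMul_vecMul, hgUW, Matrix.mul_assoc, ← Matrix.map_mul, Matrix.mul_nonsing_inv _ hWu,
      Matrix.map_one _ V.subtype.map_zero V.subtype.map_one, Matrix.mul_one, ← Matrix.vecMul_vecMul,
      Matrix.vecMul_diagonal, huK]
  have hunit : ∀ a, p (Fv a) ≠ 0 → V.valuation (valA (uV a) * dd a) = V.valuation (dd a) := fun a ha => by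
    rw [map_mul, hpv _ ha, one_mul]
  have hvle : ∀ a, p (Fv a) ≠ 0 → ν a ≤ 0 := fun a ha => by
    have hmem : valA (uV a) * dd a ∈ V := by
      rw [hvec]
      exact sum_mem fun i _ => mul_mem (hv i) ((W⁻¹) i a).2
    have := (V.valuation_le_one_iff _).2 hmem
    rw [hunit a ha] at this
    exact this
  have hvlt : (∀ i, ((algebraMap k K ∘ v) ᵥ* rho e g) i ∈ V.nonunits) → ∀ a, p (Fv a) ≠ 0 → ν a < 0 := fun hnu a ha => by
    have hmem : V.valuation (valA (uV a) * dd a) < 1 := by
      rw [hvec]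
      refine Valuation.map_sum_lt _ one_ne_zero fun i _ => ?_
      rw [map_mul]
      exact lt_of_le_of_lt (mul_le_of_le_one_right' ((V.valuation_le_one_iff _).2 ((W⁻¹) i a).2))
        ((ValuationSubring.mem_nonunits_iff V).1 (hnu i))
    rw [hunit a ha] at hmem
    exact hmem
  have hne : ∃ i, ν i ≠ 0 := by
    by_contra hcon
    push Not at hcon
    rcases hnt with ⟨a, ha⟩ | ⟨hv0, hnu⟩
    · refine ha ?_
      let VA : Subalgebra k K := { V.toSubring with algebraMap_mem' := hk }
      have hval : ∀ i, V.valuation (dd i) = 1 := fun i => congrArg Units.val (ofMul_eq_zero.1 (hcon i))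
      obtain ⟨f, rfl⟩ := he a
      refine (subalgebra_eq_top (VA.comap (g.comp (e : GLn N k →ₐ[k] A))) (fun i j => ?_) ?_).ge (Algebra.mem_top (x := f))
      · change rho e g i j ∈ V
        rw [hgUW, Matrix.mul_apply]
        refine sum_mem fun l _ => mul_mem ?_ (W l j).2
        rw [Matrix.mul_diagonal]
        exact mul_mem (U i l).2 ((V.valuation_le_one_iff _).1 (hval l).le)
      · change g (e GLn.Dinv) ∈ V
        rw [← V.valuation_le_one_iff]
        have h1 : g (e GLn.Dinv) * (rho e g).det = 1 := by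
          rw [rho, ← map_det, AlgHom.comp_apply, ← map_mul]
          change g (e GLn.Dinv * e GLn.det) = 1
          rw [← map_mul, GLn.Dinv_mul_det, map_one, map_one]
        have h2 := congrArg V.valuation h1
        rw [hgUW, Matrix.det_mul, Matrix.det_mul, Matrix.det_diagonal, ← RingHom.mapMatrix_apply,
          ← RingHom.mapMatrix_apply, ← RingHom.map_det, ← RingHom.map_det, hU, hW, map_one, one_mul, mul_one,
          map_mul, map_prod] at h2
        simp only [hval, Finset.prod_const_one, mul_one, map_one] at h2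
        exact h2.le
    · apply hv0
      have hz : (algebraMap k (IsLocalRing.ResidueField V) ∘ v) ᵥ* (mat p)⁻¹ = 0 := funext fun a => by
        by_contra ha
        rw [← hFv] at ha
        exact absurd (hcon a) (hvlt hnu a ha).ne
      have h3 := congrArg (fun x => x ᵥ* mat p) hz
      simp only [Matrix.vecMul_vecMul, Matrix.nonsing_inv_mul _ (isUnit_det p), Matrix.vecMul_one,
        Matrix.zero_vecMul] at h3
      exact funext fun i => (algebraMap k (IsLocalRing.ResidueField V)).injective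
        ((congrFun h3 i).trans (map_zero _).symm)
  haveI : Algebra.FiniteType k (GLin.invariants k A (GLn N k)) := Luna.finiteType_invariants hG
  obtain ⟨s, hs⟩ := (Algebra.FiniteType.out : (⊤ : Subalgebra k (GLin.invariants k A (GLn N k))).FG)
  let neg : Fin N → Wt N := fun a => -Pi.single a 1
  let S : Finset (Wt N) := (s.biUnion fun f => wts (f : GLn N k)) ∪ Finset.univ.image neg
  obtain ⟨r, hr0, -, hr⟩ := OrderHom.exists_int_weights ν hne S
  let bad : Finset (GLn N k) :=
    (((s.biUnion fun f => (wts (f : GLn N k)).image fun w => comp (f : GLn N k) w)) ∪ Finset.univ.image Fv).filter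
      fun x => p x = 0
  obtain ⟨w₀, hw₀⟩ := Orbits.exists_pt (k := k) (R := GLn N k) (I := Ideal.span (bad : Set (GLn N k))) fun htop => by
    have hle : Ideal.span (bad : Set (GLn N k)) ≤ RingHom.ker p :=
      Ideal.span_le.2 fun x hx => (Finset.mem_filter.1 hx).2
    rw [htop, top_le_iff] at hle
    exact RingHom.ker_ne_top p hle
  have hpne : ∀ x, x ∈ (((s.biUnion fun f => (wts (f : GLn N k)).image fun w => comp (f : GLn N k) w)) ∪
      Finset.univ.image Fv) → w₀ x ≠ 0 → p x ≠ 0 := fun x hx hwx hpx =>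
    hwx (hw₀ (Ideal.subset_span (Finset.mem_filter.2 ⟨hx, hpx⟩)))
  have hsum : ∀ a, ∑ i, neg a i • ν i = -ν a ∧ ∑ i, neg a i * r i = -r a := fun a => by
    simp [neg, Pi.single_apply]
  have hFw : ∀ a, (v ᵥ* (mat w₀)⁻¹) a ≠ 0 → p (Fv a) ≠ 0 := fun a ha =>
    hpne _ (Finset.mem_union_right _ (Finset.mem_image_of_mem _ (Finset.mem_univ a))) (by
      rw [hFv, Algebra.algebraMap_self]; exact ha)
  have hSa : ∀ a, neg a ∈ S := fun a => Finset.mem_union_right _ (Finset.mem_image_of_mem _ (Finset.mem_univ a))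
  refine ⟨r, w₀, hr0, fun f hf => ?_, fun a ha => ?_, fun hnu a ha => ?_⟩
  · let good : Subalgebra k (GLin.invariants k A (GLn N k)) :=
      ((Polynomial.aeval (R := k) fun t : kˣ => (t : k)).range).comap
        ((AlgHom.pi fun t : kˣ => moved r t w₀).comp (GLin.invariants k A (GLn N k)).val)
    have htop : good = ⊤ := by
      rw [← top_le_iff, ← hs, Algebra.adjoin_le_iff]
      intro f hf
      refine ⟨∑ w ∈ wts (f : GLn N k), Polynomial.C (w₀ (comp (f : GLn N k) w)) * Polynomial.X ^ (∑ i, w i * r i).toNat, ?_⟩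
      funext t
      change _ = moved r t w₀ (f : GLn N k)
      rw [moved_eq_sum, map_sum, Finset.sum_apply]
      refine Finset.sum_congr rfl fun w hw => ?_
      change (Polynomial.aeval (R := k) fun t : kˣ => (t : k)) (Polynomial.C (w₀ (comp (f : GLn N k) w)) *
        Polynomial.X ^ (∑ i, w i * r i).toNat) t = _
      simp only [map_mul, map_pow, Polynomial.aeval_C, Polynomial.aeval_X, Pi.mul_apply, Pi.pow_apply]
      by_cases h0 : w₀ (comp (f : GLn N k) w) = 0
      · simp [h0]
      have hpw := hpne _ (Finset.mem_union_left _ (Finset.mem_biUnion.2 ⟨f, hf, Finset.mem_image_of_mem _ hw⟩)) h0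
      have h1 := (hr w (Finset.mem_union_left _ (Finset.mem_biUnion.2 ⟨f, hf, hw⟩))).1 (hinvW _ f.2 w hpw)
      obtain ⟨l, hl⟩ := Int.eq_ofNat_of_zero_le h1
      rw [hl, Int.toNat_natCast, zpow_natCast, Units.val_pow_eq_pow_val]
      exact mul_comm _ _
    obtain ⟨P, hP⟩ : (⟨f, hf⟩ : GLin.invariants k A (GLn N k)) ∈ good := htop ▸ Algebra.mem_top
    refine ⟨P, fun t => (congrFun hP t).symm.trans ?_⟩
    change (Polynomial.aeval fun t : kˣ => (t : k)) P t = _
    rw [Polynomial.aeval_fn_apply, Polynomial.aeval_def, Algebra.algebraMap_self, Polynomial.eval₂_id]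
  · have h := (hr _ (hSa a)).1
    rw [(hsum a).1, (hsum a).2, neg_nonneg, neg_nonneg] at h
    exact h (hvle a (hFw a ha))
  · have h := (hr _ (hSa a)).2
    rw [(hsum a).1, (hsum a).2, neg_pos, neg_pos] at h
    exact h (hvlt hnu a (hFw a ha))

end

end Groth.Agent.H60.HM
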