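import Groth.Agent.H60.HM.Cochar
import Groth.Agent.H60.HM.Embed
import Groth.Agent.H60.HM.Valuation
import Groth.Agent.H60.OrbitVal
import Groth.Agent.H60.OrbitDim
import Groth.Agent.H60.NullCone
import Groth.Prelude.Def_SGA3t2b

/-!
The numerical criterion for a linearly reductive group acting linearly.
-/

set_option autoImplicit false

universe u

open TensorProduct CoordGrp Groth.Agent.Lib.Comod Matrix LaurentPolynomial

namespace Groth.Agent.H60.HM

noncomputable section

variable {k : Type u} [Field k] {A : Type u} [CommRing A] [HopfAlgebra k A] {N : ℕ}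

/-- The product of two points. -/
def pmul (g h : A →ₐ[k] k) : A →ₐ[k] k :=
  (Algebra.TensorProduct.productMap g h).comp (Bialgebra.comulAlgHom k A)

theorem rho_pmul (e : GLn N k →ₐc[k] A) (g h : A →ₐ[k] k) : rho e (pmul g h) = rho e g * rho e h := by
  ext i j
  change pmul g h (e (GLn.X i j)) = _
  rw [pmul, AlgHom.comp_apply, Bialgebra.comulAlgHom_apply, ← CoalgHomClass.map_comp_comul_apply e, GLn.comul_X,
    map_sum, map_sum, Matrix.mul_apply]
  simp [rho, mat]

theorem counit_eq_evT : Bialgebra.counitAlgHom k k[T;T⁻¹] = evT (1 : kˣ) := by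
  refine AlgHom.ext fun x => ?_
  induction x using LaurentPolynomial.induction_on' with
  | add p q hp hq => rw [map_add, map_add, hp, hq]
  | C_mul_T n c => simp [← C_eq_algebraMap]

theorem pmul_evT (lam : A →ₐc[k] k[T;T⁻¹]) (s t : kˣ) :
    pmul ((evT s).comp (lam : A →ₐ[k] k[T;T⁻¹])) ((evT t).comp (lam : A →ₐ[k] k[T;T⁻¹])) =
      (evT (s * t)).comp (lam : A →ₐ[k] k[T;T⁻¹]) := by
  refine AlgHom.ext fun a => ?_
  have hT : (Algebra.TensorProduct.productMap (evT s) (evT t)).comp (Bialgebra.comulAlgHom k k[T;T⁻¹]) = evT (s * t) := by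
    refine AlgHom.ext fun x => ?_
    induction x using LaurentPolynomial.induction_on' with
    | add p q hp hq => rw [map_add, map_add, hp, hq]
    | C_mul_T n c =>
      rw [AlgHom.comp_apply, Bialgebra.comulAlgHom_apply, show (LaurentPolynomial.C c * T n : k[T;T⁻¹]) = c • T n by
        rw [Algebra.smul_def, C_eq_algebraMap]]
      simp [mul_zpow]
  rw [pmul, AlgHom.comp_apply, Bialgebra.comulAlgHom_apply, AlgHom.comp_apply, ← hT, AlgHom.comp_apply,
    Bialgebra.comulAlgHom_apply]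
  change _ = Algebra.TensorProduct.productMap (evT s) (evT t) (CoalgebraStruct.comul (lam a))
  rw [← CoalgHomClass.map_comp_comul_apply lam]
  induction CoalgebraStruct.comul (R := k) a using TensorProduct.induction_on with
  | zero => simp
  | tmul x y => simp
  | add p q hp hq => simp only [map_add, hp, hq]

theorem isTrivial_of_finite [IsAlgClosed k] (lam : A →ₐc[k] k[T;T⁻¹]) {S : Set (A →ₐ[k] k)} (hS : S.Finite)
    (h : ∀ t : kˣ, (evT t).comp (lam : A →ₐ[k] k[T;T⁻¹]) ∈ S) : SGA3t2b.IsTrivialBialgHom lam := by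
  classical
  intro a
  obtain ⟨c, hc⟩ : ∃ c : k, lam a = LaurentPolynomial.C c := by
    have h0 : ∏ φ ∈ hS.toFinset, (lam a - LaurentPolynomial.C (φ a)) = 0 := evT_ext fun t => by
      rw [map_zero, map_prod]
      refine Finset.prod_eq_zero (hS.mem_toFinset.2 (h t)) ?_
      simp
    obtain ⟨φ, -, hφ⟩ := Finset.prod_eq_zero_iff.1 h0
    exact ⟨φ a, sub_eq_zero.1 hφ⟩
  have h1 := CoalgHomClass.counit_comp_apply lam a
  rw [hc, C_eq_algebraMap, Bialgebra.counit_algebraMap] at h1
  rw [hc, C_eq_algebraMap, ← h1]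

variable [IsAlgClosed k] [Algebra.FiniteType k A]
variable {ι : Type u} [Fintype ι] [HopfRep.Comod k A (MvPolynomial ι k)] [GLin.IsCoactAlg k A (MvPolynomial ι k)]

theorem lamOrbit_X (lam : A →ₐc[k] k[T;T⁻¹]) (v : ι → k) (t : kˣ) (i : ι) :
    evT t (GLin.lamOrbit k A lam (GLin.vecPt k ι v) (MvPolynomial.X i)) =
      mv ((evT t).comp (lam : A →ₐ[k] k[T;T⁻¹])) v i := rfl

/-- A limit lies in the orbit closure. -/
theorem inOrbitClosure_of_poly (lam : A →ₐc[k] k[T;T⁻¹]) (v : ι → k) (P : ι → Polynomial k)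
    (h : ∀ (t : kˣ) i, mv ((evT t).comp (lam : A →ₐ[k] k[T;T⁻¹])) v i = (P i).eval (t : k)) :
    GLin.InOrbitClosure k A (GLin.vecPt k ι v) (GLin.vecPt k ι fun i => (P i).eval 0) := by
  intro f hf
  let ev : MvPolynomial ι k →ₐ[k] Polynomial k := MvPolynomial.aeval P
  have hev : ∀ t : k, (Polynomial.aeval t).comp ev = GLin.vecPt k ι fun i => (P i).eval t := fun t =>
    MvPolynomial.algHom_ext fun i => by simp [ev, Polynomial.coe_aeval_eq_eval]
  have h0 : ev f = 0 := poly_ext fun t => by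
    have h1 : (Polynomial.aeval (t : k)).comp ev =
        (evT t).comp (GLin.lamOrbit k A lam (GLin.vecPt k ι v)) := MvPolynomial.algHom_ext fun i => by
      rw [hev, AlgHom.comp_apply, lamOrbit_X, h]
      simp
    have h2 := AlgHom.congr_fun h1 f
    simp only [AlgHom.comp_apply, GLin.lamOrbit] at h2
    rw [RingHom.mem_ker.1 hf, map_zero, map_zero, Polynomial.coe_aeval_eq_eval] at h2
    rw [h2, Polynomial.eval_zero]
  rw [RingHom.mem_ker, ← hev, AlgHom.comp_apply, h0, map_zero]

/-- The shifted orbit with non-positive value extends. -/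
theorem exists_poly_of_isMu {lam : A →ₐc[k] k[T;T⁻¹]} {v : ι → k} {m : ℤ} (hμ : GLin.IsMu k A lam v m) (hm : m ≤ 0) :
    ∃ P : ι → Polynomial k, (∀ (t : kˣ) i, mv ((evT t).comp (lam : A →ₐ[k] k[T;T⁻¹])) v i = (P i).eval (t : k)) ∧
      (m < 0 → ∀ i, (P i).eval 0 = 0) := by
  obtain ⟨h, hh, -⟩ := hμ
  obtain ⟨l, hl⟩ := Int.eq_ofNat_of_zero_le (neg_nonneg.2 hm)
  refine ⟨fun i => Polynomial.X ^ l * h (MvPolynomial.X i), fun t i => ?_, fun hlt i => ?_⟩
  · have h1 := congrArg (evT t) (AlgHom.congr_fun hh (MvPolynomial.X i))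
    simp only [GLin.shiftedOrbit, MvPolynomial.aeval_X, map_mul, evT_T, lamOrbit_X, AlgHom.comp_apply,
      Polynomial.toLaurentAlg_apply] at h1
    rw [show evT t (Polynomial.toLaurent (h (MvPolynomial.X i))) = (h (MvPolynomial.X i)).eval (t : k) from
      MuTorus.eval_toLaurent t _] at h1
    rw [Polynomial.eval_mul, Polynomial.eval_pow, Polynomial.eval_X, h1, ← mul_assoc, ← Units.val_pow_eq_pow_val,
      ← Units.val_mul, ← zpow_natCast, ← hl, ← zpow_add, neg_add_cancel, zpow_zero, Units.val_one, one_mul]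
  · rw [Polynomial.eval_mul, Polynomial.eval_pow, Polynomial.eval_X, zero_pow (by omega), zero_mul]

theorem not_isSemistableVec_of_isMu (hG : HopfRep.IsLinearlyReductive k A) (hlin : GLin.IsLinear k A ι)
    {lam : A →ₐc[k] k[T;T⁻¹]} {v : ι → k} {m : ℤ} (hμ : GLin.IsMu k A lam v m) (hm : m < 0) :
    ¬ GLin.IsSemistableVec k A v := by
  obtain ⟨P, hP, hP0⟩ := exists_poly_of_isMu hμ hm.le
  rw [NullCone.semistable_iff k A hG ι hlin v, not_not]
  have h := inOrbitClosure_of_poly lam v P hP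
  rwa [show (fun i => (P i).eval 0) = (fun _ : ι => (0 : k)) from funext (hP0 hm)] at h

theorem not_isStableVec_of_isMu (hlin : GLin.IsLinear k A ι)
    {lam : A →ₐc[k] k[T;T⁻¹]} (hnt : ¬ SGA3t2b.IsTrivialBialgHom lam) {v : ι → k} {m : ℤ}
    (hμ : GLin.IsMu k A lam v m) (hm : m ≤ 0) : ¬ GLin.IsStableVec k A v := by
  classical
  rintro ⟨hcl, hfin⟩
  obtain ⟨N, e, σ, he, hσ, hext⟩ := exists_embed (A := A) hlin
  obtain ⟨P, hP, -⟩ := exists_poly_of_isMu hμ hm
  obtain ⟨g, hg⟩ := Orbits.inOrbit_of_isClosedOrbit hcl (inOrbitClosure_of_poly lam v P hP)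
  let y : ι → k := fun i => (P i).eval 0
  have hy : y = mv g v := funext fun i => by
    have := AlgHom.congr_fun hg (MvPolynomial.X i)
    simpa [GLin.actPt, mv] using this
  let ex : (ι → k) → Fin N → k := fun u => Function.extend σ u 0
  have hex : ∀ (h : A →ₐ[k] k) (u : ι → k), ex u ᵥ* rho e h = ex (mv h u) := fun h u => by
    simpa using hext k h u
  let L : kˣ → (A →ₐ[k] k) := fun t => (evT t).comp (lam : A →ₐ[k] k[T;T⁻¹])
  have hfix : ∀ t, ex y ᵥ* rho e (L t) = ex y := fun t => by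
    funext c
    let Q : Fin N → Polynomial k := Function.extend σ P 0
    have hQ : ∀ (a : k) l, (Q l).eval a = Function.extend σ (fun i => (P i).eval a) 0 l := fun a l => by
      by_cases hl : ∃ i, σ i = l
      · obtain ⟨i, rfl⟩ := hl
        simp only [Q, hσ.extend_apply]
      · simp [Q, Function.extend_apply' _ _ _ hl]
    have hs : ∀ (s : kˣ) l, (Q l).eval (s : k) = (ex v ᵥ* rho e (L s)) l := fun s l => by
      rw [hex, hQ]
      exact congrFun (congrArg (fun u => Function.extend σ u (0 : Fin N → k)) (funext fun i => (hP s i).symm)) l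
    have hpoly : ∑ l, Q l * Polynomial.C (rho e (L t) l c) = (Q c).comp (Polynomial.X * Polynomial.C (t : k)) :=
      poly_ext fun s => by
        rw [Polynomial.eval_comp, Polynomial.eval_mul, Polynomial.eval_X, Polynomial.eval_C, Polynomial.eval_finset_sum,
          ← Units.val_mul, hs, show rho e (L (s * t)) = rho e (L s) * rho e (L t) by rw [← rho_pmul, pmul_evT],
          ← Matrix.vecMul_vecMul]
        refine Finset.sum_congr rfl fun l _ => ?_
        rw [Polynomial.eval_mul, Polynomial.eval_C, hs]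
    have h0 := congrArg (Polynomial.eval 0) hpoly
    rw [Polynomial.eval_comp, Polynomial.eval_mul, Polynomial.eval_X, zero_mul, Polynomial.eval_finset_sum] at h0
    simp only [Polynomial.eval_mul, Polynomial.eval_C, hQ] at h0
    exact h0
  let st : kˣ → (A →ₐ[k] k) := fun t => pmul (pmul g (L t)) (g.comp (HopfAlgebra.antipodeAlgHom k A))
  have hgi := rho_antipode e g
  have hrst : ∀ t, rho e (st t) = rho e g * rho e (L t) * (rho e g)⁻¹ := fun t => by
    rw [rho_pmul, rho_pmul, Matrix.inv_eq_right_inv hgi]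
  have hst : ∀ t, mv (st t) v = v := fun t => by
    refine funext fun i => ?_
    have h1 : ex (mv (st t) v) = ex v := by
      rw [← hex, hrst, ← Matrix.vecMul_vecMul, ← Matrix.vecMul_vecMul, hex g, ← hy, hfix, hy, ← hex,
        Matrix.vecMul_vecMul, Matrix.mul_nonsing_inv _ (isUnit_det_rho e g), Matrix.vecMul_one]
    simpa [ex, hσ.extend_apply] using congrFun h1 (σ i)
  have hfs := (OrbitDim.hasFiniteStab_iff _).1 hfin
  refine hnt (isTrivial_of_finite lam (hfs.image fun h => pmul (pmul (g.comp (HopfAlgebra.antipodeAlgHom k A)) h) g) fun t => ?_)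
  refine ⟨st t, fun f => ?_, ?_⟩
  · have h1 : GLin.actPt k (st t) (GLin.vecPt k ι v) = GLin.vecPt k ι v :=
      MvPolynomial.algHom_ext fun i => by
        simpa [GLin.actPt, mv] using congrFun (hst t) i
    have h2 := AlgHom.congr_fun h1 f
    rwa [Orbits.actPt_apply, ← Orbits.act_eq_dact] at h2
  · have hrho : rho e (pmul (pmul (g.comp (HopfAlgebra.antipodeAlgHom k A)) (st t)) g) = rho e (L t) := by
      rw [rho_pmul, rho_pmul, hrst, ← Matrix.inv_eq_right_inv hgi]
      simp only [← Matrix.mul_assoc, Matrix.nonsing_inv_mul _ (isUnit_det_rho e g), Matrix.one_mul]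
      simp only [Matrix.mul_assoc, Matrix.nonsing_inv_mul _ (isUnit_det_rho e g), Matrix.mul_one]
    refine AlgHom.ext fun a => ?_
    obtain ⟨f, rfl⟩ := he a
    exact AlgHom.congr_fun (mat_ext hrho) f

theorem exists_isMu [CharZero k] {N : ℕ} {e : GLn N k →ₐc[k] A} (he : Function.Surjective e)
    (hG : HopfRep.IsLinearlyReductive k A) {σ : ι → Fin N} (hσ : Function.Injective σ)
    (hext : ∀ (h : A →ₐ[k] k) (u : ι → k), Function.extend σ u 0 ᵥ* rho e h = Function.extend σ (mv h u) 0)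
    {v : ι → k} (hv : v ≠ 0) {r : Fin N → ℤ} {w₀ : GLn N k →ₐ[k] k} (hr0 : r ≠ 0) (hlim : HasLim e r w₀)
    {good : ℤ → Prop} (hgood : ∀ a b, b ≤ a → good a → good b)
    (hsupp : ∀ a, (Function.extend σ v 0 ᵥ* (mat w₀)⁻¹) a ≠ 0 → good (r a)) :
    ∃ (lam : A →ₐc[k] k[T;T⁻¹]) (m : ℤ), ¬ SGA3t2b.IsTrivialBialgHom lam ∧ GLin.IsMu k A lam v m ∧ good m := by
  classical
  obtain ⟨P₁, w, hP₁, hP₁u, hw, hfix⟩ := exists_fixed e he hG hlim
  obtain ⟨lam, hlam⟩ := exists_cochar e he hG (-r) w fun f hf t => by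
    have h : moved (-r) t w = moved r t⁻¹ w := mat_ext (by simp [dg])
    rw [h, hfix f hf]
  have hwu := isUnit_det w
  set x := Function.extend σ v 0 with hx
  set u := x ᵥ* (mat w)⁻¹ with hu
  have huw : u ᵥ* mat w = x := by rw [hu, Matrix.vecMul_vecMul, Matrix.nonsing_inv_mul _ hwu, Matrix.vecMul_one]
  have hsupp' : ∀ b, u b ≠ 0 → good (r b) := fun b hb => by
    rw [hu, hw, Matrix.mul_inv_rev, ← Matrix.vecMul_vecMul] at hb
    rw [Matrix.vecMul, dotProduct] at hb
    obtain ⟨a, -, ha⟩ := Finset.exists_ne_zero_of_sum_ne_zero hb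
    have hinv : Nonneg r P₁⁻¹ := by
      letI := Matrix.invertibleOfIsUnitDet P₁ hP₁u
      have hB : P₁.BlockTriangular (fun i => -r i) := fun i j hij => by
        by_contra h
        have := hP₁ i j h
        simp only at hij
        omega
      intro i j hij
      by_contra h
      exact hij (Matrix.blockTriangular_inv_of_blockTriangular hB (show -r j < -r i by omega))
    exact hgood _ _ (hinv a b (right_ne_zero_of_mul ha)) (hsupp a (left_ne_zero_of_mul ha))
  obtain ⟨i₀, hi₀⟩ := Function.ne_iff.1 hv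
  have hS : (Finset.univ.filter fun a => u a ≠ 0).Nonempty := by
    by_contra hS
    rw [Finset.not_nonempty_iff_eq_empty, Finset.filter_eq_empty_iff] at hS
    apply hi₀
    have h0 : u = 0 := funext fun a => not_not.1 (hS (Finset.mem_univ a))
    have := congrFun huw (σ i₀)
    rw [h0, Matrix.zero_vecMul, hx, hσ.extend_apply] at this
    exact this.symm
  obtain ⟨a₀, ha₀, hmax⟩ := Finset.exists_max_image _ r hS
  have ha₀' : u a₀ ≠ 0 := (Finset.mem_filter.1 ha₀).2
  let Q : Fin N → Polynomial k := fun c => ∑ a, Polynomial.C (u a * mat w a c) * Polynomial.X ^ (r a₀ - r a).toNat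
  have hQ : ∀ (t : kˣ) c, (Q c).eval (t : k) =
      ((t ^ r a₀ : kˣ) : k) * (x ᵥ* rho e ((evT t).comp (lam : A →ₐ[k] k[T;T⁻¹]))) c := fun t c => by
    rw [hlam, ← Matrix.vecMul_vecMul, ← Matrix.vecMul_vecMul, ← hu, Matrix.vecMul, dotProduct, Finset.mul_sum,
      Polynomial.eval_finset_sum]
    refine Finset.sum_congr rfl fun a _ => ?_
    rw [dg, Matrix.vecMul_diagonal, Polynomial.eval_mul, Polynomial.eval_C, Polynomial.eval_pow, Polynomial.eval_X]
    by_cases h0 : u a = 0
    · simp [h0]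
    obtain ⟨l, hl⟩ := Int.eq_ofNat_of_zero_le (sub_nonneg.2 (hmax a (Finset.mem_filter.2 ⟨Finset.mem_univ a, h0⟩)))
    have h1 : ((t ^ r a₀ : kˣ) : k) * ((t ^ (-r) a : kˣ) : k) = (t : k) ^ l := by
      rw [← Units.val_mul, ← zpow_add, Pi.neg_apply, ← sub_eq_add_neg, hl, zpow_natCast, Units.val_pow_eq_pow_val]
    rw [hl, Int.toNat_natCast, ← h1]
    ring
  have hQ0 : ∃ i, (Q (σ i)).eval 0 ≠ 0 := by
    by_contra hcon
    push Not at hcon
    let u' : Fin N → k := fun a => if r a = r a₀ then u a else 0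
    have hu' : u' ᵥ* mat w = 0 := funext fun c => by
      have h1 : (u' ᵥ* mat w) c = (Q c).eval 0 := by
        simp only [Matrix.vecMul, dotProduct, Q, Polynomial.eval_finset_sum, Polynomial.eval_mul, Polynomial.eval_C,
          Polynomial.eval_pow, Polynomial.eval_X]
        refine Finset.sum_congr rfl fun a _ => ?_
        by_cases h0 : u a = 0
        · simp [u', h0]
        have h2 := hmax a (Finset.mem_filter.2 ⟨Finset.mem_univ a, h0⟩)
        simp only [u']
        split_ifs with h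
        · simp [h]
        · rw [zero_pow (by omega)]; simp
      rw [h1, Pi.zero_apply]
      by_cases hc : ∃ i, σ i = c
      · obtain ⟨i, rfl⟩ := hc; exact hcon i
      · have h3 : Q c = 0 := poly_ext fun t => by
          rw [hQ, hx, hext, Function.extend_apply' _ _ _ hc, Pi.zero_apply, mul_zero, Polynomial.eval_zero]
        rw [h3, Polynomial.eval_zero]
    have h4 := congrArg (fun z => (z ᵥ* (mat w)⁻¹) a₀) hu'
    simp only [Matrix.vecMul_vecMul, Matrix.mul_nonsing_inv _ hwu, Matrix.vecMul_one, Matrix.zero_vecMul,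
      Pi.zero_apply, u', if_true] at h4
    exact ha₀' h4
  refine ⟨lam, r a₀, fun htriv => hr0 ?_, ⟨MvPolynomial.aeval fun i => Q (σ i), ?_, ?_⟩, hsupp' a₀ ha₀'⟩
  · funext a
    have ht : ∀ t : kˣ, dg (-r) t = 1 := fun t => by
      have h1 : rho e ((evT t).comp (lam : A →ₐ[k] k[T;T⁻¹])) = 1 := by
        rw [← rho_counit e]
        congr 1
        refine AlgHom.ext fun z => ?_
        change evT t (lam z) = _
        rw [htriv z, AlgHom.commutes]
        rfl
      rw [hlam] at h1
      have h2 := congrArg (fun M => mat w * M * (mat w)⁻¹) h1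
      simp only [Matrix.mul_one, Matrix.mul_nonsing_inv _ hwu, ← Matrix.mul_assoc, Matrix.one_mul] at h2
      rwa [Matrix.mul_nonsing_inv_cancel_right _ _ hwu] at h2
    have h3 : (T ((-r) a) : k[T;T⁻¹]) = T 0 := evT_ext fun t => by
      have := congrFun (congrFun (ht t) a) a
      simpa [dg] using this
    have h4 : (-r) a = 0 := AddMonoidAlgebra.single_left_injective one_ne_zero h3
    simpa using h4
  · refine MvPolynomial.algHom_ext fun i => evT_ext fun t => ?_
    simp only [AlgHom.comp_apply, MvPolynomial.aeval_X, GLin.shiftedOrbit, map_mul, evT_T, lamOrbit_X,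
      Polynomial.toLaurentAlg_apply]
    refine (MuTorus.eval_toLaurent t _).trans ?_
    rw [hQ, hx, hext, hσ.extend_apply]
  · intro hcon
    obtain ⟨i, hi⟩ := hQ0
    apply hi
    have := AlgHom.congr_fun hcon (MvPolynomial.X i)
    simpa [Polynomial.coe_aeval_eq_eval] using this

theorem exists_isMu_of_valuation [CharZero k] (hG : HopfRep.IsLinearlyReductive k A) (hlin : GLin.IsLinear k A ι)
    {v : ι → k} (hv : v ≠ 0) {K : Type u} [Field K] [Algebra k K] (V : ValuationSubring K)
    (hk : ∀ c : k, algebraMap k K c ∈ V) (g : A →ₐ[k] K) (hran : ∀ i, mv g v i ∈ V) :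
    ((∃ a, g a ∉ V) → ∃ (lam : A →ₐc[k] k[T;T⁻¹]) (m : ℤ),
        ¬ SGA3t2b.IsTrivialBialgHom lam ∧ GLin.IsMu k A lam v m ∧ m ≤ 0) ∧
      ((∀ i, mv g v i ∈ V.nonunits) → ∃ (lam : A →ₐc[k] k[T;T⁻¹]) (m : ℤ),
        ¬ SGA3t2b.IsTrivialBialgHom lam ∧ GLin.IsMu k A lam v m ∧ m < 0) := by
  classical
  obtain ⟨N, e, σ, he, hσ, hext⟩ := exists_embed (A := A) hlin
  have hextk : ∀ (h : A →ₐ[k] k) (u : ι → k),
      Function.extend σ u 0 ᵥ* rho e h = Function.extend σ (mv h u) 0 := fun h u => by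
    simpa using hext k h u
  have hrow : (algebraMap k K ∘ Function.extend σ v 0) ᵥ* rho e g = Function.extend σ (mv g v) 0 := by
    rw [← hext K g v]
    congr 1
    funext c
    by_cases hc : ∃ i, σ i = c
    · obtain ⟨i, rfl⟩ := hc; simp [hσ.extend_apply]
    · simp [Function.extend_apply' _ _ _ hc]
  have hx : Function.extend σ v (0 : Fin N → k) ≠ 0 := fun h => hv (funext fun i => by
    simpa [hσ.extend_apply] using congrFun h (σ i))
  have hmem : ∀ c, ((algebraMap k K ∘ Function.extend σ v 0) ᵥ* rho e g) c ∈ V := fun c => by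
    rw [hrow]
    by_cases hc : ∃ i, σ i = c
    · obtain ⟨i, rfl⟩ := hc; rw [hσ.extend_apply]; exact hran i
    · rw [Function.extend_apply' _ _ _ hc]; exact zero_mem _
  constructor
  · intro hnt
    obtain ⟨r, w₀, hr0, hlim, hle, -⟩ := of_valuation e he hG V hk g _ hmem (Or.inl hnt)
    exact exists_isMu he hG hσ hextk hv hr0 hlim (good := fun m => m ≤ 0) (fun a b h h' => h.trans h') hle
  · intro hnu
    have hnu' : ∀ c, ((algebraMap k K ∘ Function.extend σ v 0) ᵥ* rho e g) c ∈ V.nonunits := fun c => by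
      rw [hrow]
      by_cases hc : ∃ i, σ i = c
      · obtain ⟨i, rfl⟩ := hc; rw [hσ.extend_apply]; exact hnu i
      · rw [Function.extend_apply' _ _ _ hc, ValuationSubring.mem_nonunits_iff]; simp
    obtain ⟨r, w₀, hr0, hlim, -, hlt⟩ := of_valuation e he hG V hk g _ hmem (Or.inr ⟨hx, hnu'⟩)
    exact exists_isMu he hG hσ hextk hv hr0 hlim (good := fun m => m < 0) (fun a b h h' => lt_of_le_of_lt h h') (hlt hnu')

theorem semistable_iff [CharZero k] (hG : HopfRep.IsLinearlyReductive k A) (hlin : GLin.IsLinear k A ι)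
    {v : ι → k} (hv : v ≠ 0) :
    GLin.IsSemistableVec k A v ↔ ∀ (lam : A →ₐc[k] k[T;T⁻¹]) (m : ℤ), GLin.IsMu k A lam v m → 0 ≤ m := by
  refine ⟨fun h lam m hm => le_of_not_gt fun hlt => not_isSemistableVec_of_isMu hG hlin hm hlt h, fun h => ?_⟩
  by_contra hcon
  rw [NullCone.semistable_iff k A hG ι hlin v, not_not] at hcon
  obtain ⟨K, _, _, χ, V, hk, hran, hz⟩ := OrbitVal.exists_valuation_of_inOrbitClosure hcon
  obtain ⟨lam, m, -, hm, hlt⟩ := (exists_isMu_of_valuation hG hlin hv V hk χ fun i => hran _).2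
    fun i => hz _ (by simp)
  exact (h lam m hm).not_gt hlt

theorem stable_iff [CharZero k] (hG : HopfRep.IsLinearlyReductive k A) (hlin : GLin.IsLinear k A ι)
    {v : ι → k} (hv : v ≠ 0) :
    GLin.IsStableVec k A v ↔ ∀ lam : A →ₐc[k] k[T;T⁻¹], ¬ SGA3t2b.IsTrivialBialgHom lam →
      ∀ m : ℤ, GLin.IsMu k A lam v m → 0 < m := by
  refine ⟨fun h lam hnt m hm => lt_of_not_ge fun hle => not_isStableVec_of_isMu hlin hnt hm hle h, fun h => ?_⟩
  refine OrbitVal.isStablePt_of_isIntegral _ ?_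
  by_contra hint
  obtain ⟨K, _, _, χ, V, hk, hran, t, ht⟩ := OrbitVal.exists_valuation_of_not_integral _ hint
  obtain ⟨lam, m, hnt, hm, hle⟩ := (exists_isMu_of_valuation hG hlin hv V hk χ fun i => hran _).1 ⟨t, ht⟩
  exact (h lam hnt m hm).not_ge hle

end

end Groth.Agent.H60.HM
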