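import Groth.Prelude.Def_GLin4
import Groth.Agent.Lib.Comod.Orbits
import Mathlib.LinearAlgebra.Matrix.NonsingularInverse

/-!
Points of the general linear group as matrices, homomorphisms to it, and translations.
-/

set_option autoImplicit false

universe u v w

open TensorProduct CoordGrp Groth.Agent.Lib.Comod

namespace Groth.Agent.H60.HM

noncomputable section

variable {k : Type u} [Field k] {N : ℕ} {B : Type v} [CommRing B] [Algebra k B]

/-- The matrix of a point. -/
def mat (φ : GLn N k →ₐ[k] B) : Matrix (Fin N) (Fin N) B := fun i j => φ (GLn.X i j)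

theorem map_det (φ : GLn N k →ₐ[k] B) : φ GLn.det = (mat φ).det := by
  rw [GLn.det_eq, AlgHom.map_det]; rfl

theorem isUnit_det (φ : GLn N k →ₐ[k] B) : IsUnit (mat φ).det :=
  IsUnit.of_mul_eq_one (φ GLn.Dinv) (by rw [← map_det, ← map_mul, GLn.det_mul_Dinv, map_one])

theorem mat_ext {φ ψ : GLn N k →ₐ[k] B} (h : mat φ = mat ψ) : φ = ψ := by
  refine GLn.algHom_ext (fun i j => congrFun (congrFun h i) j) ?_
  refine (isUnit_det φ).mul_left_cancel ?_
  rw [← map_det, ← map_mul, GLn.det_mul_Dinv, map_one, map_det, h, ← map_det, ← map_mul, GLn.det_mul_Dinv, map_one]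

/-- The point with given invertible matrix. -/
def ofMat (M : Matrix (Fin N) (Fin N) B) (h : IsUnit M.det) : GLn N k →ₐ[k] B :=
  GLn.pt N k M (↑h.unit⁻¹ : B) h.mul_val_inv

@[simp] theorem mat_ofMat (M : Matrix (Fin N) (Fin N) B) (h : IsUnit M.det) : mat (ofMat (k := k) M h) = M := by
  ext i j; exact GLn.pt_X M _ _ i j

theorem mat_comp {C : Type w} [CommRing C] [Algebra k C] (f : B →ₐ[k] C) (φ : GLn N k →ₐ[k] B) :
    mat (f.comp φ) = (mat φ).map f := rfl

theorem ofMat_mat (φ : GLn N k →ₐ[k] B) : ofMat (mat φ) (isUnit_det φ) = φ := mat_ext (mat_ofMat _ _)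

/-- The product of two points. -/
def mulP (φ ψ : GLn N k →ₐ[k] B) : GLn N k →ₐ[k] B :=
  ofMat (mat φ * mat ψ) (by rw [Matrix.det_mul]; exact (isUnit_det φ).mul (isUnit_det ψ))

@[simp] theorem mat_mulP (φ ψ : GLn N k →ₐ[k] B) : mat (mulP φ ψ) = mat φ * mat ψ := mat_ofMat _ _

theorem mulP_eq (φ ψ : GLn N k →ₐ[k] B) :
    mulP φ ψ = (Algebra.TensorProduct.productMap φ ψ).comp (Bialgebra.comulAlgHom k (GLn N k)) := by
  refine mat_ext ?_
  rw [mat_mulP]
  ext i j
  simp [mat, Matrix.mul_apply, GLn.comul_X]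

variable {A : Type u} [CommRing A] [HopfAlgebra k A]

theorem algHom_ext_X {f g : GLn N k →ₐ[k] B} (h : ∀ i j, f (GLn.X i j) = g (GLn.X i j)) : f = g :=
  mat_ext (Matrix.ext h)

/-- The homomorphism to the general linear group given by a multiplicative matrix. -/
def homOf (P : Matrix (Fin N) (Fin N) A)
    (hc : ∀ i j, CoalgebraStruct.comul (R := k) (P i j) = ∑ l, P i l ⊗ₜ[k] P l j)
    (he : ∀ i j, CoalgebraStruct.counit (R := k) (P i j) = if i = j then (1 : k) else 0) :
    GLn N k →ₐc[k] A :=
  have hu : IsUnit P.det := by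
    refine Matrix.isUnit_det_of_left_inverse (B := P.map (HopfAlgebraStruct.antipode (R := k) (A := A))) ?_
    ext i j
    have h := HopfAlgebra.mul_antipode_rTensor_comul_apply (R := k) (P i j)
    rw [hc, map_sum, map_sum, he] at h
    simp only [LinearMap.rTensor_tmul, LinearMap.mul'_apply] at h
    simp only [Matrix.mul_apply, Matrix.map_apply, h, Matrix.one_apply]
    split_ifs <;> simp
  BialgHom.ofAlgHom (ofMat P hu)
    (algHom_ext_X fun i j => by
      simp only [AlgHom.comp_apply, Bialgebra.counitAlgHom_apply]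
      rw [show ofMat (k := k) P hu (GLn.X i j) = P i j from congrFun (congrFun (mat_ofMat P hu) i) j, he, GLn.counit_X])
    (algHom_ext_X fun i j => by
      simp only [AlgHom.comp_apply, Bialgebra.comulAlgHom_apply, GLn.comul_X, map_sum,
        Algebra.TensorProduct.map_tmul]
      have hX : ∀ a b, ofMat (k := k) P hu (GLn.X a b) = P a b := fun a b => congrFun (congrFun (mat_ofMat P hu) a) b
      simp only [hX, hc])

theorem homOf_X (P : Matrix (Fin N) (Fin N) A)
    (hc : ∀ i j, CoalgebraStruct.comul (R := k) (P i j) = ∑ l, P i l ⊗ₜ[k] P l j)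
    (he : ∀ i j, CoalgebraStruct.counit (R := k) (P i j) = if i = j then (1 : k) else 0) (i j : Fin N) :
    homOf P hc he (GLn.X i j) = P i j := congrFun (congrFun (mat_ofMat (k := k) P _) i) j

/-- The matrix of a point of a group with a homomorphism to the general linear group. -/
def rho (e : GLn N k →ₐc[k] A) (g : A →ₐ[k] B) : Matrix (Fin N) (Fin N) B := mat (g.comp (e : GLn N k →ₐ[k] A))

theorem isUnit_det_rho (e : GLn N k →ₐc[k] A) (g : A →ₐ[k] B) : IsUnit (rho e g).det := isUnit_det _

theorem rho_counit (e : GLn N k →ₐc[k] A) : rho e (Bialgebra.counitAlgHom k A) = 1 := by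
  ext i j
  simp [rho, mat, CoalgHomClass.counit_comp_apply, GLn.counit_X, Matrix.one_apply]

theorem rho_antipode (e : GLn N k →ₐc[k] A) (g : A →ₐ[k] B) :
    rho e g * rho e (g.comp (HopfAlgebra.antipodeAlgHom k A)) = 1 := by
  ext i j
  have hc : CoalgebraStruct.comul (R := k) (e (GLn.X i j)) =
      ∑ l, e (GLn.X i l) ⊗ₜ[k] e (GLn.X l j) := by
    rw [← CoalgHomClass.map_comp_comul_apply e, GLn.comul_X, map_sum]
    simp
  have hh := congrArg g (HopfAlgebra.mul_antipode_lTensor_comul_apply (R := k) (e (GLn.X i j)))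
  rw [hc, map_sum, map_sum, map_sum, CoalgHomClass.counit_comp_apply, GLn.counit_X, AlgHom.commutes] at hh
  simp only [LinearMap.lTensor_tmul, LinearMap.mul'_apply, map_mul] at hh
  simp only [rho, mat, Matrix.mul_apply, AlgHom.comp_apply, HopfAlgebra.antipodeAlgHom_apply, Matrix.one_apply]
  refine hh.trans ?_
  split_ifs <;> simp

/-- The coordinates and the inverse of the determinant generate. -/
theorem subalgebra_eq_top (S : Subalgebra k (GLn N k)) (hX : ∀ i j, GLn.X i j ∈ S) (hD : GLn.Dinv ∈ S) : S = ⊤ := by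
  refine eq_top_iff.2 fun f hf => ?_; clear hf
  obtain ⟨p, rfl⟩ := Ideal.Quotient.mk_surjective f
  let φ : MvPolynomial (GLPoly.Idx N) k →ₐ[k] GLn N k := GLn.mk N k
  change φ p ∈ S
  induction p using MvPolynomial.induction_on with
  | C c =>
    rw [show MvPolynomial.C c = algebraMap k (MvPolynomial (GLPoly.Idx N) k) c from rfl, AlgHom.commutes]
    exact S.algebraMap_mem c
  | add p q hp hq => rw [map_add]; exact S.add_mem hp hq
  | mul_X p s hp =>
    rw [map_mul]
    refine S.mul_mem hp ?_
    rcases s with ⟨i, j⟩ | u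
    · exact hX i j
    · exact hD

/-- The action of a group on the general linear group by right translations through a homomorphism. -/
@[reducible] def rComod (e : GLn N k →ₐc[k] A) : HopfRep.Comod k A (GLn N k) :=
  GLin.comodAlong e (HopfRep.Comod.regular k (GLn N k))

theorem isCoactAlg_regular : GLin.IsCoactAlg k (GLn N k) (GLn N k) :=
  ⟨Bialgebra.comul_one, Bialgebra.comul_mul⟩

theorem isCoactAlg_rComod (e : GLn N k →ₐc[k] A) : @GLin.IsCoactAlg k _ A _ _ (GLn N k) _ _ (rComod e) :=
  GLin.isCoactAlg_comodAlong e (HopfRep.Comod.regular k (GLn N k)) isCoactAlg_regular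

section Translate

variable (e : GLn N k →ₐc[k] A)

theorem rComod_coact_X (i j : Fin N) :
    (rComod e).coact (GLn.X i j) = ∑ l, GLn.X i l ⊗ₜ[k] e (GLn.X l j) := by
  change TensorProduct.map LinearMap.id (e : GLn N k →ₗ[k] A) (CoalgebraStruct.comul (GLn.X i j)) = _
  rw [GLn.comul_X, map_sum]
  simp

theorem orbitHom_X (x : GLn N k →ₐ[k] k) (i j : Fin N) :
    letI := rComod e
    haveI := isCoactAlg_rComod e
    GLin.orbitHom k A x (GLn.X i j) = ∑ l, algebraMap k A (mat x i l) * e (GLn.X l j) := by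
  letI := rComod e
  haveI := isCoactAlg_rComod e
  simp only [GLin.orbitHom, AlgHom.comp_apply, GLin.coactAlgHom_apply]
  rw [rComod_coact_X, map_sum, map_sum]
  simp [mat, Algebra.smul_def]

theorem mat_actPt (g : A →ₐ[k] k) (x : GLn N k →ₐ[k] k) :
    letI := rComod e
    haveI := isCoactAlg_rComod e
    mat (GLin.actPt k g x) = mat x * rho e g := by
  letI := rComod e
  haveI := isCoactAlg_rComod e
  ext i j
  rw [mat, GLin.actPt, AlgHom.comp_apply, orbitHom_X, map_sum, Matrix.mul_apply]
  refine Finset.sum_congr rfl fun l _ => ?_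
  rw [map_mul, AlgHom.commutes]
  rfl

theorem orbitHom_surjective (he : Function.Surjective e) (x : GLn N k →ₐ[k] k) :
    letI := rComod e
    haveI := isCoactAlg_rComod e
    Function.Surjective (GLin.orbitHom k A x) := by
  letI := rComod e
  haveI := isCoactAlg_rComod e
  let o := GLin.orbitHom k A x
  obtain ⟨y, hy⟩ : ∃ y : Matrix (Fin N) (Fin N) k, y * mat x = 1 :=
    ⟨_, Matrix.nonsing_inv_mul _ (isUnit_det x)⟩
  have hX : ∀ l j, e (GLn.X l j) ∈ o.range := fun l j => by
    refine ⟨∑ i, algebraMap k _ (y l i) * GLn.X i j, ?_⟩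
    change o _ = _
    simp only [map_sum, o, map_mul, AlgHom.commutes]
    refine (Finset.sum_congr rfl fun i _ => congrArg (algebraMap k A (y l i) * ·) (orbitHom_X e x i j)).trans ?_
    simp only [Finset.mul_sum, ← _root_.mul_assoc, ← map_mul]
    rw [Finset.sum_comm]
    simp only [← Finset.sum_mul, ← map_sum, ← Matrix.mul_apply, hy, Matrix.one_apply]
    simp
  have hdet : e GLn.det ∈ o.range := by
    rw [show e (GLn.det : GLn N k) = (rho e (AlgHom.id k A)).det from map_det (e : GLn N k →ₐ[k] A)]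
    rw [Matrix.det_apply]
    exact Subalgebra.sum_mem _ fun σ _ => Subalgebra.zsmul_mem _ (Subalgebra.prod_mem _ fun i _ => hX _ _) _
  have hD : o GLn.Dinv * algebraMap k A (x GLn.det) * e GLn.det = 1 := by
    have h1 : o GLn.det = algebraMap k A (x GLn.det) * e GLn.det := by
      rw [map_det o, map_det x, show (e (GLn.det : GLn N k)) = (rho e (AlgHom.id k A)).det from
        map_det (e : GLn N k →ₐ[k] A), RingHom.map_det, ← Matrix.det_mul]
      congr 1
      ext i j
      simp only [mat, Matrix.mul_apply, RingHom.mapMatrix_apply, Matrix.map_apply, rho]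
      exact orbitHom_X e x i j
    rw [_root_.mul_assoc, ← h1, ← map_mul, mul_comm, GLn.det_mul_Dinv, map_one]
  have hDe : e GLn.Dinv ∈ o.range := by
    have h2 : e GLn.Dinv * e GLn.det = 1 := by rw [← map_mul, GLn.Dinv_mul_det, map_one]
    have h3 : o GLn.Dinv * algebraMap k A (x GLn.det) = e GLn.Dinv := left_inv_eq_right_inv hD ((mul_comm _ _).trans h2)
    rw [← h3]
    exact Subalgebra.mul_mem _ ⟨_, rfl⟩ (Subalgebra.algebraMap_mem _ _)
  intro a
  obtain ⟨f, rfl⟩ := he a
  exact (subalgebra_eq_top (o.range.comap (e : GLn N k →ₐ[k] A)) hX hDe).ge (Algebra.mem_top (x := f))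

theorem isClosedOrbit (he : Function.Surjective e) (x : GLn N k →ₐ[k] k) :
    letI := rComod e
    haveI := isCoactAlg_rComod e
    GLin.IsClosedOrbit k A x := by
  letI := rComod e
  haveI := isCoactAlg_rComod e
  exact (PrimeSpectrum.isClosedEmbedding_comap_of_surjective _ _ (orbitHom_surjective e he x)).isClosed_range

end Translate

end

end Groth.Agent.H60.HM
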